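import Cfsg.Agent.G2Q.Defs2

set_option autoImplicit false

namespace Cfsg.Agent.G2Q

theorem add_expand_uniq {A Ω : Type*} [Field A] [Finite A] [Field Ω] {p : ℕ} [Fact p.Prime] [CharP A p] [CharP Ω p]
    (ι : A →+* Ω) {f : ℕ} (hf : Nat.card A = p ^ f) (c : Fin f → Ω)
    (h : ∀ x, ∑ i, c i * ι x ^ p ^ (i : ℕ) = 0) : c = 0 := by
  classical
  have hp : p.Prime := Fact.out
  letI : Fintype A := Fintype.ofFinite A
  set P : Polynomial Ω := ∑ i : Fin f, Polynomial.monomial (p ^ (i : ℕ)) (c i) with hP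
  have hdeg : P.natDegree ≤ p ^ f - 1 := by
    apply Polynomial.natDegree_sum_le_of_forall_le
    intro i _
    refine (Polynomial.natDegree_monomial_le _).trans ?_
    have : p ^ (i : ℕ) < p ^ f := Nat.pow_lt_pow_right hp.one_lt i.2
    omega
  have hpos : 0 < p ^ f := pow_pos hp.pos f
  have h0 : P = 0 := by
    apply Polynomial.eq_zero_of_natDegree_lt_card_of_eval_eq_zero P ι.injective
    · intro x
      rw [hP, Polynomial.eval_finset_sum]
      simpa [Polynomial.eval_monomial] using h x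
    · rw [← Nat.card_eq_fintype_card, hf]
      omega
  funext j
  have hc := congrArg (fun Q : Polynomial Ω => Q.coeff (p ^ (j : ℕ))) h0
  simp only [hP, Polynomial.finset_sum_coeff, Polynomial.coeff_monomial, Polynomial.coeff_zero] at hc
  rw [Finset.sum_eq_single j] at hc
  · simpa using hc
  · intro i _ hij
    rw [if_neg]
    intro he
    exact hij (Fin.ext (Nat.pow_right_injective hp.two_le he))
  · simp

/-- Additive maps between finite fields of the same characteristic are sums of ring homomorphisms. -/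
theorem add_expand {A Ω : Type*} [Field A] [Finite A] [Field Ω] {p : ℕ} [Fact p.Prime] [CharP A p] [CharP Ω p]
    (ι : A →+* Ω) {f : ℕ} (hf : Nat.card A = p ^ f) (φ : A →+ Ω) :
    ∃ c : Fin f → Ω, ∀ x, φ x = ∑ i, c i * ι x ^ p ^ (i : ℕ) := by
  classical
  have hp : p.Prime := Fact.out
  letI : Algebra (ZMod p) A := ZMod.algebra A p
  letI : Algebra (ZMod p) Ω := ZMod.algebra Ω p
  have hA : Module.finrank (ZMod p) A = f := by
    have h1 := Module.natCard_eq_pow_finrank (K := ZMod p) (V := A)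
    rw [hf, Nat.card_zmod] at h1
    exact (Nat.pow_right_injective hp.two_le h1).symm
  let ψ : (Fin f → Ω) → A →+ Ω := fun c =>
    { toFun := fun x => ∑ i, c i * ι x ^ p ^ (i : ℕ)
      map_zero' := by
        apply Finset.sum_eq_zero
        intro i _
        rw [map_zero, zero_pow (pow_pos hp.pos _).ne', mul_zero]
      map_add' := fun x y => by
        rw [← Finset.sum_add_distrib]
        apply Finset.sum_congr rfl
        intro i _
        rw [map_add, add_pow_char_pow, mul_add] }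
  let L : (Fin f → Ω) →ₗ[Ω] (A →ₗ[ZMod p] Ω) :=
    { toFun := fun c => (ψ c).toZModLinearMap p
      map_add' := fun c d => by
        ext x
        simp [ψ, add_mul, Finset.sum_add_distrib]
      map_smul' := fun a c => by
        ext x
        simp [ψ, Finset.mul_sum, mul_assoc] }
  have hinj : Function.Injective L := by
    rw [← LinearMap.ker_eq_bot, LinearMap.ker_eq_bot']
    intro c hc
    apply add_expand_uniq ι hf c
    intro x
    exact LinearMap.congr_fun hc x
  have hrank : Module.finrank Ω (Fin f → Ω) = Module.finrank Ω (A →ₗ[ZMod p] Ω) := by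
    rw [Module.finrank_linearMap, hA]
    simp
  have hsurj := (LinearMap.injective_iff_surjective_of_finrank_eq_finrank hrank).1 hinj
  obtain ⟨c, hc⟩ := hsurj (φ.toZModLinearMap p)
  exact ⟨c, fun x => (LinearMap.congr_fun hc x).symm⟩

/-- The weights of a non-zero equivariant biadditive map. -/
theorem biadd_weight {A B Ω : Type*} [Field A] [Finite A] [Field B] [Finite B] [Field Ω] {p : ℕ} [Fact p.Prime]
    [CharP A p] [CharP B p] [CharP Ω p] (ι : A →+* Ω) (κ : B →+* Ω) (φ : A →+ B →+ Ω) (hφ : φ ≠ 0) :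
    ∃ i k : ℕ, ∀ (a : A) (c : B) (d : Ω), (∀ v x, φ (a * v) (c * x) = d * φ v x) →
      d = ι a ^ p ^ i * κ c ^ p ^ k := by
  classical
  letI : Fintype A := Fintype.ofFinite A
  letI : Fintype B := Fintype.ofFinite B
  obtain ⟨f, -, hf⟩ := FiniteField.card A p
  obtain ⟨g, -, hg⟩ := FiniteField.card B p
  rw [← Nat.card_eq_fintype_card] at hf hg
  choose C hC using fun v : A => add_expand κ hg (φ v)
  have hadd : ∀ v w, C (v + w) = C v + C w := by
    intro v w
    rw [← sub_eq_zero]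
    apply add_expand_uniq κ hg
    intro x
    have h1 := hC (v + w) x
    rw [map_add, AddMonoidHom.add_apply, hC v x, hC w x] at h1
    simp only [Pi.sub_apply, Pi.add_apply, sub_mul, add_mul, Finset.sum_sub_distrib, Finset.sum_add_distrib]
    rw [h1, sub_self]
  let D : Fin g → A →+ Ω := fun k => AddMonoidHom.mk' (fun v => C v k) (fun v w => by rw [hadd]; rfl)
  choose E hE using fun k => add_expand ι hf (D k)
  have hE' : ∀ k v, C v k = ∑ i, E k i * ι v ^ p ^ (i : ℕ) := hE
  have hne : ∃ k i, E k i ≠ 0 := by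
    by_contra hcon
    push Not at hcon
    apply hφ
    ext v x
    rw [hC v x]
    simp [hE', hcon]
  obtain ⟨k, i, hki⟩ := hne
  refine ⟨i, k, fun a c d h => ?_⟩
  have h1 : ∀ v, (fun k : Fin g => C (a * v) k * κ c ^ p ^ (k : ℕ) - d * C v k) = 0 := by
    intro v
    apply add_expand_uniq κ hg
    intro x
    have h2 := h v x
    rw [hC, hC, Finset.mul_sum, ← sub_eq_zero, ← Finset.sum_sub_distrib] at h2
    rw [← h2]
    apply Finset.sum_congr rfl
    intro j _
    rw [map_mul, mul_pow]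
    ring
  have h3 : (fun i : Fin f => E k i * (ι a ^ p ^ (i : ℕ) * κ c ^ p ^ (k : ℕ) - d)) = 0 := by
    apply add_expand_uniq ι hf
    intro v
    have h4 := congrFun (h1 v) k
    simp only [Pi.zero_apply] at h4
    rw [hE', hE', Finset.sum_mul, Finset.mul_sum, ← Finset.sum_sub_distrib] at h4
    rw [← h4]
    apply Finset.sum_congr rfl
    intro j _
    rw [map_mul, mul_pow]
    ring
  have h5 := congrFun h3 i
  simp only [Pi.zero_apply, mul_eq_zero, hki, false_or] at h5
  exact (sub_eq_zero.1 h5).symm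

private theorem pw_le {p a d e g r : ℕ} (hp : 3 ≤ p) (hr : 0 < r) (he : e ≤ d) (hg : g ≤ d)
    (h : p ^ a + r ≤ p ^ d + p ^ e + p ^ g) : a ≤ d := by
  by_contra hcon
  have h1 : p ^ (d + 1) ≤ p ^ a := Nat.pow_le_pow_right (by omega) (by omega)
  have h2 : p ^ e ≤ p ^ d := Nat.pow_le_pow_right (by omega) he
  have h3 : p ^ g ≤ p ^ d := Nat.pow_le_pow_right (by omega) hg
  have h4 : p ^ d * 3 ≤ p ^ (d + 1) := by
    rw [pow_succ]
    exact Nat.mul_le_mul_left _ hp
  omega

private theorem pw_two' {p a b d e : ℕ} (hp : 3 ≤ p) (hb : b ≤ a) (he : e ≤ d)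
    (h : p ^ a + p ^ b = p ^ d + p ^ e) : a + b = d + e := by
  have hpos : ∀ n, 0 < p ^ n := fun n => pow_pos (by omega) n
  have h1 : a ≤ d := pw_le hp (hpos b) he he (by have := hpos e; omega)
  have h2 : d ≤ a := pw_le hp (hpos e) hb hb (by have := hpos b; omega)
  obtain rfl : a = d := le_antisymm h1 h2
  have h3 : p ^ b = p ^ e := by omega
  rw [Nat.pow_right_injective (by omega : 2 ≤ p) h3]

private theorem pw_two {p a b d e : ℕ} (hp : 3 ≤ p) (h : p ^ a + p ^ b = p ^ d + p ^ e) :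
    a + b = d + e := by
  rcases le_total a b with h1 | h1 <;> rcases le_total d e with h2 | h2
  · have := pw_two' hp h1 h2 (by omega); omega
  · have := pw_two' hp h1 h2 (by omega); omega
  · have := pw_two' hp h1 h2 (by omega); omega
  · have := pw_two' hp h1 h2 (by omega); omega

private theorem pw_three' {p a b c d e g : ℕ} (hp : 3 ≤ p) (hb : b ≤ a) (hc : c ≤ a) (he : e ≤ d) (hg : g ≤ d)
    (h : p ^ a + p ^ b + p ^ c = p ^ d + p ^ e + p ^ g) : a + b + c = d + e + g := by
  have hpos : ∀ n, 0 < p ^ n := fun n => pow_pos (by omega) n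
  have h1 : a ≤ d := pw_le hp (hpos b) he hg (by have := hpos c; omega)
  have h2 : d ≤ a := pw_le hp (hpos e) hb hc (by have := hpos g; omega)
  obtain rfl : a = d := le_antisymm h1 h2
  have := pw_two (a := b) (b := c) (d := e) (e := g) hp (by omega)
  omega

private theorem pw_three {p a b c d e g : ℕ} (hp : 3 ≤ p)
    (h : p ^ a + p ^ b + p ^ c = p ^ d + p ^ e + p ^ g) : a + b + c = d + e + g := by
  have key : ∀ a b c : ℕ, b ≤ a → c ≤ a → p ^ a + p ^ b + p ^ c = p ^ d + p ^ e + p ^ g →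
      a + b + c = d + e + g := by
    intro a b c hb hc h
    by_cases h1 : e ≤ d ∧ g ≤ d
    · exact pw_three' hp hb hc h1.1 h1.2 h
    by_cases h2 : d ≤ e ∧ g ≤ e
    · have := pw_three' hp hb hc h2.1 h2.2 (by omega); omega
    · have := pw_three' (d := g) (e := d) (g := e) hp hb hc (by omega) (by omega) (by omega); omega
  by_cases h1 : b ≤ a ∧ c ≤ a
  · exact key a b c h1.1 h1.2 h
  by_cases h2 : a ≤ b ∧ c ≤ b
  · have := key b a c h2.1 h2.2 (by omega); omega
  · have := key c a b (by omega) (by omega) (by omega); omega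

private theorem pw_mod {p n a b c d e g : ℕ} (hp : 3 ≤ p) (hn : 0 < n)
    (h : ((p : ℤ) ^ n - 1) ∣ (p ^ a + p ^ b + p ^ c) - (p ^ d + p ^ e + p ^ g)) :
    (a + b + c) % n = (d + e + g) % n := by
  have hred : ∀ m : ℕ, ((p : ℤ) ^ n - 1) ∣ (p : ℤ) ^ m - p ^ (m % n) := by
    intro m
    have h1 : (p : ℤ) ^ m - p ^ (m % n) = p ^ (m % n) * ((p ^ n) ^ (m / n) - 1 ^ (m / n)) := by
      conv_lhs => rw [← Nat.mod_add_div m n]
      rw [Nat.add_mul_mod_self_left, Nat.mod_mod, pow_add, pow_mul, one_pow]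
      ring
    rw [h1]
    exact Dvd.dvd.mul_left (sub_dvd_pow_sub_pow _ _ _) _
  have h2 : ((p : ℤ) ^ n - 1) ∣ (p ^ (a % n) + p ^ (b % n) + p ^ (c % n)) -
      (p ^ (d % n) + p ^ (e % n) + p ^ (g % n)) := by
    have h3 : ((p : ℤ) ^ (a % n) + p ^ (b % n) + p ^ (c % n)) - (p ^ (d % n) + p ^ (e % n) + p ^ (g % n)) =
        ((p ^ a + p ^ b + p ^ c) - (p ^ d + p ^ e + p ^ g)) - (p ^ a - p ^ (a % n)) - (p ^ b - p ^ (b % n))
          - (p ^ c - p ^ (c % n)) + (p ^ d - p ^ (d % n)) + (p ^ e - p ^ (e % n)) + (p ^ g - p ^ (g % n)) := by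
      ring
    rw [h3]
    exact (((((h.sub (hred a)).sub (hred b)).sub (hred c)).add (hred d)).add (hred e)).add (hred g)
  have hb : ∀ m : ℕ, 1 ≤ (p : ℤ) ^ (m % n) ∧ 3 * (p : ℤ) ^ (m % n) ≤ p ^ n := by
    intro m
    have h4 : 0 < p ^ (m % n) := pow_pos (by omega) _
    have h5 : p ^ (m % n + 1) ≤ p ^ n := Nat.pow_le_pow_right (by omega) (Nat.mod_lt m hn)
    have h6 : p ^ (m % n) * 3 ≤ p ^ (m % n + 1) := by
      rw [pow_succ]
      exact Nat.mul_le_mul_left _ hp
    constructor
    · exact_mod_cast h4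
    · exact_mod_cast (by omega : 3 * p ^ (m % n) ≤ p ^ n)
  have h7 := Int.eq_zero_of_abs_lt_dvd h2 (by
    have := hb a; have := hb b; have := hb c; have := hb d; have := hb e; have := hb g
    rw [abs_lt]
    constructor <;> linarith)
  have h8 : p ^ (a % n) + p ^ (b % n) + p ^ (c % n) = p ^ (d % n) + p ^ (e % n) + p ^ (g % n) := by
    exact_mod_cast sub_eq_zero.1 h7
  have h9 := pw_three hp h8
  have h10 : ∀ a b c : ℕ, (a + b + c) % n = (a % n + b % n + c % n) % n := by
    intro a b c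
    simp [Nat.add_mod]
  rw [h10 a b c, h10 d e g, h9]

/-- The number theoretic end of the proof that `q₂ = q₁³`. -/
theorem nt_cube {p f₁ f₂ i k : ℕ} (hp : 3 ≤ p) (h0 : 0 < f₁) (hlt : f₁ < f₂) (hd : f₁ ∣ f₂) {ε : ℤ}
    (hε : ε = 1 ∨ ε = -1) (h : ((p : ℤ) ^ f₂ - 1) ∣ (p ^ k + ε * (p ^ i + 1)) * (p ^ f₁ - 1)) : f₂ = 3 * f₁ := by
  rcases hε with rfl | rfl
  · have h1 := pw_mod (a := k + f₁) (b := i + f₁) (c := f₁) (d := k) (e := i) (g := 0) hp (h0.trans hlt)
      (by convert h using 1; ring)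
    have h2 : f₂ ∣ 3 * f₁ := by
      have h3 := (Nat.modEq_iff_dvd' (by omega)).1 (Nat.ModEq.symm h1)
      convert h3 using 1
      omega
    obtain ⟨m, rfl⟩ := hd
    have h4 : m ∣ 3 := by
      rw [mul_comm 3 f₁] at h2
      exact Nat.dvd_of_mul_dvd_mul_left h0 h2
    rcases (Nat.dvd_prime Nat.prime_three).1 h4 with rfl | rfl
    · omega
    · omega
  · have h1 := pw_mod (a := k + f₁) (b := i) (c := 0) (d := i + f₁) (e := f₁) (g := k) hp (h0.trans hlt)
      (by convert h using 1; ring)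
    have h2 : f₂ ∣ f₁ := by
      have h3 := (Nat.modEq_iff_dvd' (by omega)).1 h1
      convert h3 using 1
      omega
    exact absurd (Nat.le_of_dvd h0 h2) (by omega)

end Cfsg.Agent.G2Q
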