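import Cfsg.Agent.G2Q.Defs2

set_option autoImplicit false

namespace Cfsg.Agent.G2Q

namespace Mod4

section Abs

variable {A X : Type*} [AddCommGroup A] [AddCommGroup X]

/-- the ascending series of a family of endomorphisms -/
def Z (N : X → A →+ A) : ℕ → AddSubgroup A
  | 0 => ⊥
  | k + 1 => ⨅ x, (Z N k).comap (N x)

theorem mem_Z {N : X → A →+ A} {k : ℕ} {v : A} : v ∈ Z N (k + 1) ↔ ∀ x, N x v ∈ Z N k := by
  simp [Z, AddSubgroup.mem_iInf]

theorem Z_le (N : X → A →+ A) (k : ℕ) : Z N k ≤ Z N (k + 1) := by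
  induction k with
  | zero => exact bot_le
  | succ k ih => exact fun v hv => mem_Z.mpr fun x => ih (mem_Z.mp hv x)

theorem exists_step [Finite X] {N : X → A →+ A} (hc : ∀ x y v, N x (N y v) = N y (N x v))
    (hn : ∀ x, ∃ n, ∀ v, (N x)^[n] v = 0) {M : AddSubgroup A} (hM : ∀ x, ∀ v ∈ M, N x v ∈ M)
    (hne : M ≠ ⊤) : ∃ v, v ∉ M ∧ ∀ x, N x v ∈ M := by
  classical
  have key : ∀ S : Finset X, ∃ v, v ∉ M ∧ ∀ x ∈ S, N x v ∈ M := by
    intro S
    induction S using Finset.induction_on with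
    | empty =>
      obtain ⟨v, hv⟩ := SetLike.exists_not_mem_of_ne_top M hne
      exact ⟨v, hv, fun x hx => absurd hx (Finset.notMem_empty x)⟩
    | insert y S _ ih =>
      obtain ⟨v, hv, hS⟩ := ih
      obtain ⟨n, hn⟩ := hn y
      have : ∀ (m : ℕ) (v : A), v ∉ M → (∀ x ∈ S, N x v ∈ M) → (N y)^[m] v ∈ M →
          ∃ v, v ∉ M ∧ ∀ x ∈ insert y S, N x v ∈ M := by
        intro m
        induction m with
        | zero => exact fun v h1 _ h2 => absurd h2 h1
        | succ m ih =>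
          intro v h1 h2 h3
          by_cases h4 : N y v ∈ M
          · exact ⟨v, h1, fun x hx => (Finset.mem_insert.mp hx).elim (fun e => e ▸ h4) (h2 x)⟩
          · exact ih (N y v) h4 (fun x hx => hc x y v ▸ hM y _ (h2 x hx)) h3
      exact this n v hv hS (hn v ▸ M.zero_mem)
  have := Fintype.ofFinite X
  obtain ⟨v, hv, h⟩ := key Finset.univ
  exact ⟨v, hv, fun x => h x (Finset.mem_univ x)⟩

theorem exists_top [Finite X] [Finite A] {N : X → A →+ A} (hc : ∀ x y v, N x (N y v) = N y (N x v))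
    (hn : ∀ x, ∃ n, ∀ v, (N x)^[n] v = 0) : ∃ k, Z N k = ⊤ := by
  by_contra hne
  push Not at hne
  have hlt : StrictMono (Z N) := strictMono_nat_of_lt_succ fun k => by
    obtain ⟨v, hv, h⟩ := exists_step hc hn (fun x v hv => mem_Z.mp (Z_le N k hv) x) (hne k)
    exact lt_of_le_of_ne (Z_le N k) fun e => hv (e ▸ mem_Z.mpr h)
  have := Finite.of_injective _ hlt.injective
  exact not_finite ℕ

/-- Killing the entries from `E` to the complement of `E`. -/
theorem kill {ι : Type*} [Fintype ι] {N : X → A →+ A} {π : ι → A →+ A} (hπ : ∀ v, ∑ i, π i v = v)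
    (hadd : ∀ x y v, N (x + y) v = N x v + N y v + N x (N y v)) (l : ι → ℕ)
    (hl : ∀ i j x v, π i (N x (π j v)) ≠ 0 → l i < l j) (hi : ∀ i v, π i (π i v) = π i v)
    (E : ι → Prop)
    (h : ∀ i j, ¬ E i → E j → (∀ x y v, π i (N (x + y) (π j v)) = π i (N x (π j v)) +
      π i (N y (π j v))) → ∀ x v, π i (N x (π j v)) = 0) :
    ∀ i j, ¬ E i → E j → ∀ x v, π i (N x (π j v)) = 0 := by
  intro i j
  induction hd : l j - l i using Nat.strong_induction_on generalizing i j with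
  | _ d ih =>
  intro h1 h2
  refine h i j h1 h2 fun x y v => ?_
  rw [hadd, map_add, map_add, add_eq_left, ← hπ (N y (π j v)), map_sum, map_sum]
  refine Finset.sum_eq_zero fun k _ => ?_
  by_contra hne
  have a1 := hl i k x _ hne
  have a3 : π k (N y (π j v)) ≠ 0 := fun e => hne (by rw [e, map_zero, map_zero])
  have a2 := hl k j y _ a3
  by_cases hk : E k
  · exact hne (ih _ (by omega) i k rfl h1 hk x _)
  · exact a3 (ih _ (by omega) k j rfl hk h2 y _)

theorem exists_level [Finite X] [Finite A] {ι : Type*} {N : X → A →+ A} {π : ι → A →+ A}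
    (hc : ∀ x y v, N x (N y v) = N y (N x v)) (hn : ∀ x, ∃ n, ∀ v, (N x)^[n] v = 0)
    (h : ∀ k i, ∀ v ∈ Z N k, π i v ≠ 0 → ∀ w, π i w ∈ Z N k) :
    ∃ l : ι → ℕ, ∀ i j x v, π i (N x (π j v)) ≠ 0 → l i < l j := by
  classical
  obtain ⟨n, hn⟩ := exists_top hc hn
  have ex : ∀ i, ∃ k, ∀ w, π i w ∈ Z N k := fun i => ⟨n, fun w => hn ▸ trivial⟩
  refine ⟨fun i => Nat.find (ex i), fun i j x v hne => ?_⟩
  have a1 := Nat.find_spec (ex j) v
  rcases hj : Nat.find (ex j) with _ | m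
  · rw [hj] at a1
    rw [show π j v = 0 from a1, map_zero, map_zero] at hne
    exact absurd rfl hne
  · rw [hj] at a1
    change Nat.find (ex i) < Nat.find (ex j)
    rw [hj]
    exact Nat.lt_succ_of_le (Nat.find_min' (ex i) (h m i _ (mem_Z.mp a1 x) hne))

end Abs

variable {F₁ F₂ : Type*} [Field F₁] [Field F₂]

/-- the coordinate projections -/
def pr : Fin 4 → (F₁ × F₁ × F₂ × F₂) →+ (F₁ × F₁ × F₂ × F₂) :=
  ![AddMonoidHom.mk' (fun v => (v.1, 0, 0, 0)) (by simp),
    AddMonoidHom.mk' (fun v => (0, v.2.1, 0, 0)) (by simp),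
    AddMonoidHom.mk' (fun v => (0, 0, v.2.2.1, 0)) (by simp),
    AddMonoidHom.mk' (fun v => (0, 0, 0, v.2.2.2)) (by simp)]

theorem pr0 (v : F₁ × F₁ × F₂ × F₂) : pr 0 v = (v.1, 0, 0, 0) := rfl
theorem pr1 (v : F₁ × F₁ × F₂ × F₂) : pr 1 v = (0, v.2.1, 0, 0) := rfl
theorem pr2 (v : F₁ × F₁ × F₂ × F₂) : pr 2 v = (0, 0, v.2.2.1, 0) := rfl
theorem pr3 (v : F₁ × F₁ × F₂ × F₂) : pr 3 v = (0, 0, 0, v.2.2.2) := rfl

theorem exists_mul {F T : Type*} [Field F] [Group T] {a : T →* Fˣ} (ha : Function.Surjective a)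
    {c : F} (hc : c ≠ 0) {d : F} (hd : d ≠ 0) : ∃ t, (a t : F) * c = d := by
  obtain ⟨t, ht⟩ := ha (Units.mk0 (d / c) (div_ne_zero hd hc))
  exact ⟨t, by rw [ht, Units.val_mk0, div_mul_cancel₀ _ hc]⟩

end Mod4

open Mod4 in
/-- A unipotent action `ξ` of `(F₂, +)` on `F₁ × F₁ × F₂ × F₂`, equivariant for a diagonal action of `T`: either the
subgroup `F₁ × 0 × 0 × F₂` is invariant or there is a non-zero equivariant biadditive map from the last coordinate
and `F₂` to the third coordinate. -/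
theorem mod4 {F₁ F₂ : Type*} [Field F₁] [Field F₂] [Finite F₁] [Finite F₂] {p : ℕ} [Fact p.Prime] (hp : p ≠ 2)
    [CharP F₁ p] [CharP F₂ p] {T : Type*} [Group T] (a' a'' : T →* F₁ˣ) (w' w'' β : T →* F₂ˣ)
    (ha' : Function.Surjective a') (ha'' : Function.Surjective a'') (hw' : Function.Surjective w')
    (hw'' : Function.Surjective w'') (ξ : F₂ → (F₁ × F₁ × F₂ × F₂) →+ (F₁ × F₁ × F₂ × F₂))
    (ξ0 : ∀ v, ξ 0 v = v) (ξadd : ∀ x y v, ξ (x + y) v = ξ x (ξ y v))
    (D : T → (F₁ × F₁ × F₂ × F₂) →+ (F₁ × F₁ × F₂ × F₂))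
    (hD : ∀ t v, D t v = (a' t * v.1, a'' t * v.2.1, w' t * v.2.2.1, w'' t * v.2.2.2))
    (hξ : ∀ t x v, D t (ξ x v) = ξ (β t * x) (D t v))
    (u : T) (u1 : a' u = 1) (u2 : a'' u = -1) (u3 : w' u = 1) (u4 : w'' u = -1) (u5 : β u = -1)
    (b : T) (b1 : a' b = 1) (b2 : a'' b = 1) (b3 : w' b ≠ 1) (b4 : w'' b ≠ 1) (b5 : β b ≠ 1) :
    (∀ x c d, ∃ c' d', ξ x (c, 0, 0, d) = (c', 0, 0, d')) ∨
      ∃ φ : F₂ →+ F₂ →+ F₂, φ ≠ 0 ∧ ∀ t v x, φ (w'' t * v) (β t * x) = w' t * φ v x := by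
  have hpp : p.Prime := Fact.out
  rw [or_iff_not_imp_right]
  intro hφ
  push Not at hφ
  let N : F₂ → (F₁ × F₁ × F₂ × F₂) →+ (F₁ × F₁ × F₂ × F₂) := fun x => ξ x - AddMonoidHom.id _
  have hN : ∀ x v, N x v = ξ x v - v := fun _ _ => rfl
  have hadd : ∀ x y v, N (x + y) v = N x v + N y v + N x (N y v) := fun x y v => by
    simp only [hN, ξadd, map_sub]; abel
  have hc : ∀ x y v, N x (N y v) = N y (N x v) := fun x y v => by
    have h1 := hadd x y v
    rw [add_comm x, hadd, add_comm (N y v)] at h1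
    exact (add_left_cancel h1).symm
  have hDN : ∀ t x v, D t (N x v) = N (β t * x) (D t v) := fun t x v => by
    rw [hN, hN, map_sub, hξ]
  have hpA : ∀ v : F₁ × F₁ × F₂ × F₂, p • v = 0 := fun v => by
    ext <;> simp [nsmul_eq_mul]
  have hn : ∀ x, ∃ n, ∀ v, (N x)^[n] v = 0 := by
    intro x
    have : Nontrivial (AddMonoid.End (F₁ × F₁ × F₂ × F₂)) := ⟨1, 0, fun e => by
      have := congrArg (fun f : AddMonoid.End (F₁ × F₁ × F₂ × F₂) => (f (1, 0, 0, 0)).1) e
      simp at this⟩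
    have : CharP (AddMonoid.End (F₁ × F₁ × F₂ × F₂)) p :=
      (CharP.charP_iff_prime_eq_zero hpp).mpr (AddMonoidHom.ext fun v =>
        (AddMonoid.End.natCast_apply p v).trans (hpA v))
    let f : AddMonoid.End (F₁ × F₁ × F₂ × F₂) := ξ x
    have h1 : ∀ k : ℕ, ∀ v, (f ^ k) v = ξ (k • x) v := by
      intro k
      induction k with
      | zero => intro v; rw [zero_smul, ξ0]; rfl
      | succ k ih => intro v; rw [succ_nsmul, ξadd, ← ih, pow_succ]; rfl
    have h2 : f ^ p = 1 := AddMonoidHom.ext fun v => (h1 p v).trans (by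
      rw [nsmul_eq_mul, CharP.cast_eq_zero, zero_mul, ξ0]; rfl)
    have h3 : (f - 1) ^ p = 0 := by
      rw [sub_pow_char_of_commute _ (Commute.one_right f), h2, one_pow, sub_self]
    refine ⟨p, fun v => ?_⟩
    have h4 := congrFun (AddMonoid.End.coe_pow _ (f - 1) p) v
    rw [h3] at h4
    exact h4.symm
  have t1 : (2 : F₁) ≠ 0 := Ring.two_ne_zero (by rwa [ringChar.eq F₁ p])
  have t2 : (2 : F₂) ≠ 0 := Ring.two_ne_zero (by rwa [ringChar.eq F₂ p])
  have hZ : ∀ k t, ∀ v ∈ Z N k, D t v ∈ Z N k := by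
    intro k
    induction k with
    | zero => intro t v hv; rw [show v = 0 from hv, map_zero]; exact AddSubgroup.zero_mem _
    | succ k ih =>
      intro t v hv
      refine mem_Z.mpr fun x => ?_
      have := ih t _ (mem_Z.mp hv ((β t : F₂)⁻¹ * x))
      rwa [hDN, mul_inv_cancel_left₀ (β t).ne_zero] at this
  have b3' : (w' b : F₂) - 1 ≠ 0 := sub_ne_zero.mpr fun e => b3 (Units.ext e)
  have b4' : (w'' b : F₂) - 1 ≠ 0 := sub_ne_zero.mpr fun e => b4 (Units.ext e)
  have b5' : (β b : F₂) - 1 ≠ 0 := sub_ne_zero.mpr fun e => b5 (Units.ext e)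
  obtain ⟨l, hl⟩ := exists_level (π := pr) hc hn (by
    intro k i v hv hne w
    have full : ∀ (i : Fin 4) (v : F₁ × F₁ × F₂ × F₂), pr i v ∈ Z N k → pr i v ≠ 0 → ∀ w,
        pr i w ∈ Z N k := by
      intro i v hv hne w
      by_cases hw : pr i w = 0
      · rw [hw]; exact AddSubgroup.zero_mem _
      obtain ⟨t, ht⟩ : ∃ t, D t (pr i v) = pr i w := by
        fin_cases i
        · obtain ⟨t, ht⟩ := exists_mul ha' (c := v.1) (by simpa [pr0] using hne) (d := w.1)
            (by simpa [pr0] using hw)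
          exact ⟨t, by simp [pr0, hD, ht]⟩
        · obtain ⟨t, ht⟩ := exists_mul ha'' (c := v.2.1) (by simpa [pr1] using hne) (d := w.2.1)
            (by simpa [pr1] using hw)
          exact ⟨t, by simp [pr1, hD, ht]⟩
        · obtain ⟨t, ht⟩ := exists_mul hw' (c := v.2.2.1) (by simpa [pr2] using hne)
            (d := w.2.2.1) (by simpa [pr2] using hw)
          exact ⟨t, by simp [pr2, hD, ht]⟩
        · obtain ⟨t, ht⟩ := exists_mul hw'' (c := v.2.2.2) (by simpa [pr3] using hne)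
            (d := w.2.2.2) (by simpa [pr3] using hw)
          exact ⟨t, by simp [pr3, hD, ht]⟩
      exact ht ▸ hZ k t _ hv
    obtain ⟨v1, v2, v3, v4⟩ := v
    have e1 : ((2 * v1, 0, 2 * v3, 0) : F₁ × F₁ × F₂ × F₂) ∈ Z N k := by
      convert add_mem hv (hZ k u _ hv) using 1
      simp [hD, u1, u2, u3, u4, two_mul]
    have e2 : ((0, 2 * v2, 0, 2 * v4) : F₁ × F₁ × F₂ × F₂) ∈ Z N k := by
      convert sub_mem hv (hZ k u _ hv) using 1
      simp [hD, u1, u2, u3, u4, two_mul]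
    have e3 : pr 2 ((0, 0, (w' b - 1) * (2 * v3), 0) : F₁ × F₁ × F₂ × F₂) ∈ Z N k := by
      convert sub_mem (hZ k b _ e1) e1 using 1
      simp [hD, b1, pr2, sub_mul]
    have e4 : pr 3 ((0, 0, 0, (w'' b - 1) * (2 * v4)) : F₁ × F₁ × F₂ × F₂) ∈ Z N k := by
      convert sub_mem (hZ k b _ e2) e2 using 1
      simp [hD, b2, pr3, sub_mul]
    have f3 : v3 ≠ 0 → ∀ w, pr 2 w ∈ Z N k := fun h => full 2 _ e3 (by simp [pr2, b3', t2, h])
    have f4 : v4 ≠ 0 → ∀ w, pr 3 w ∈ Z N k := fun h => full 3 _ e4 (by simp [pr3, b4', t2, h])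
    fin_cases i
    · refine full 0 (2 * v1, 0, 0, 0) ?_ (by simpa [pr0, t1] using hne) w
      by_cases h : v3 = 0
      · simpa [pr0, h] using e1
      · convert sub_mem e1 (f3 h (0, 0, 2 * v3, 0)) using 1
        simp [pr0, pr2]
    · refine full 1 (0, 2 * v2, 0, 0) ?_ (by simpa [pr1, t1] using hne) w
      by_cases h : v4 = 0
      · simpa [pr1, h] using e2
      · convert sub_mem e2 (f4 h (0, 0, 0, 2 * v4)) using 1
        simp [pr1, pr3]
    · exact f3 (by simpa [pr2] using hne) w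
    · exact f4 (by simpa [pr3] using hne) w)
  have hDp : ∀ t i v, D t (pr i v) = pr i (D t v) := by
    intro t i v
    fin_cases i <;> simp [hD, pr0, pr1, pr2, pr3]
  have hneg : ∀ i j : Fin 4, (∀ x y v, pr i (N (x + y) (pr j v)) = pr i (N x (pr j v)) +
      pr i (N y (pr j v))) → ∀ x v, pr i (N (-x) (pr j v)) = -pr i (N x (pr j v)) := by
    intro i j h x v
    rw [eq_neg_iff_add_eq_zero, ← h, neg_add_cancel, hN, ξ0, sub_self, map_zero]
  have key := kill (π := pr) (fun v => by simp [Fin.sum_univ_four, pr0, pr1, pr2, pr3]) hadd l hl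
    (fun i v => by fin_cases i <;> rfl) (fun i => i = 0 ∨ i = 3) (by
      intro i j hi hj h x v
      have eq : ∀ t x v, D t (pr i (N x (pr j v))) = pr i (N (β t * x) (pr j (D t v))) :=
        fun t x v => by rw [hDp, hDN, hDp]
      have hi' : i = 1 ∨ i = 2 :=
        (by decide : ∀ i : Fin 4, ¬ (i = 0 ∨ i = 3) → i = 1 ∨ i = 2) i hi
      rcases hi' with rfl | rfl <;> rcases hj with rfl | rfl
      · have e := eq b ((β b - 1 : F₂)⁻¹ * x) v
        have e' := h ((β b - 1 : F₂)⁻¹ * x) x v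
        have e2 : (β b - 1 : F₂)⁻¹ * x + x = β b * ((β b - 1 : F₂)⁻¹ * x) := by field_simp; ring
        have e3 : pr 0 (D b v) = pr 0 v := by simp [pr0, hD, b1]
        have e4 : ∀ w, D b (pr 1 w) = pr 1 w := fun w => by simp [pr1, hD, b2]
        rw [e3, e4, ← e2, e'] at e
        exact left_eq_add.mp e
      · have e := eq u x v
        have e3 : pr 3 (D u v) = -pr 3 v := by simp [pr3, hD, u4]
        have e4 : ∀ w, D u (pr 1 w) = -pr 1 w := fun w => by simp [pr1, hD, u2]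
        rw [e3, e4, u5, map_neg, map_neg, Units.val_neg, Units.val_one, neg_one_mul,
          hneg _ _ h, neg_neg] at e
        generalize N x (pr 3 v) = w at e ⊢
        have : -w.2.1 = w.2.1 := congrArg (fun z => z.2.1) e
        have : w.2.1 = 0 := (mul_eq_zero.mp (show 2 * w.2.1 = 0 by
          linear_combination -this)).resolve_left t1
        rw [pr1, this]; rfl
      · have e := eq u x v
        have e3 : pr 0 (D u v) = pr 0 v := by simp [pr0, hD, u1]
        have e4 : ∀ w, D u (pr 2 w) = pr 2 w := fun w => by simp [pr2, hD, u3]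
        rw [e3, e4, u5, Units.val_neg, Units.val_one, neg_one_mul, hneg _ _ h] at e
        generalize N x (pr 0 v) = w at e ⊢
        have : w.2.2.1 = -w.2.2.1 := congrArg (fun z => z.2.2.1) e
        have : w.2.2.1 = 0 := (mul_eq_zero.mp (show 2 * w.2.2.1 = 0 by
          linear_combination this)).resolve_left t2
        rw [pr2, this]; rfl
      · let φ : F₂ →+ F₂ →+ F₂ := AddMonoidHom.mk' (fun v => AddMonoidHom.mk'
          (fun x => (N x (0, 0, 0, v)).2.2.1) fun x y =>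
            congrArg (fun z => z.2.2.1) (h x y (0, 0, 0, v))) fun v v' => AddMonoidHom.ext fun x => by
              change (N x (0, 0, 0, v + v')).2.2.1 = (N x (0, 0, 0, v) + N x (0, 0, 0, v')).2.2.1
              rw [← map_add]; simp
        have h0 : φ = 0 := by
          by_contra hne
          obtain ⟨t, v, x, hx⟩ := hφ φ hne
          apply hx
          have := congrArg (fun z => z.2.2.1) (eq t x (0, 0, 0, v))
          simp only [hD, pr2, pr3] at this
          exact this.symm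
        have : (N x (pr 3 v)).2.2.1 = 0 := by
          change φ v.2.2.2 x = 0
          rw [h0]; rfl
        rw [pr2, this]; rfl)
  intro x c d
  have e : ((c, 0, 0, d) : F₁ × F₁ × F₂ × F₂) = pr 0 (c, 0, 0, d) + pr 3 (c, 0, 0, d) := by
    simp [pr0, pr3]
  have k1 : pr 1 (N x (c, 0, 0, d)) = 0 := by
    rw [e, map_add, map_add, key 1 0 (by decide) (by decide), key 1 3 (by decide) (by decide),
      add_zero]
  have k2 : pr 2 (N x (c, 0, 0, d)) = 0 := by
    rw [e, map_add, map_add, key 2 0 (by decide) (by decide), key 2 3 (by decide) (by decide),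
      add_zero]
  refine ⟨(ξ x (c, 0, 0, d)).1, (ξ x (c, 0, 0, d)).2.2.2, ?_⟩
  ext
  · rfl
  · simpa [pr1, hN] using k1
  · simpa [pr2, hN] using k2
  · rfl

end Cfsg.Agent.G2Q
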