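import Cfsg.Agent.G2Q.BaseT
import Cfsg.Agent.G2Q.SLa
import Cfsg.Agent.G2Q.Inner
import Cfsg.Agent.H3.PGroup

set_option autoImplicit false

namespace Cfsg.Agent.G2Q

open Subgroup Matrix H90

variable {G : Type*} [Group G] [Finite G] {F₁ F₂ : Type*} [Field F₁] [Field F₂] [Finite F₁] [Finite F₂]
  {j : G} {f₁ : SL2 F₁ →* G} {f₂ : SL2 F₂ →* G} {H : Subgroup G}

namespace Outer

theorem oact (h : Hyp j f₁ f₂ H) {s : G} (hs : s ∈ H) (h2 : s * s = 1) (hY : s ∉ YY f₁ f₂) :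
    ∃ g : GL (Fin 2) F₁, g.1.trace = 0 ∧ ¬ IsSquare g.1.det ∧ (∀ x, gc g (gc g x) = x) ∧
      ∀ x, s * f₁ x * s⁻¹ = f₁ (gc g x) := by
  obtain ⟨g, hg, hd⟩ := h.act₁ s hs
  have hns : ¬ IsSquare g.1.det := fun e => hY (hd.1 e)
  have hsq : ∀ x, gc g (gc g x) = x := fun x => h.inj₁ (by
    rw [← hg, ← hg]
    calc _ = (s * s) * f₁ x * (s * s)⁻¹ := by group
      _ = _ := by rw [h2]; group)
  refine ⟨g, trace_zero_of_sq hsq ?_, hns, hsq, hg⟩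
  by_contra hc
  push Not at hc
  exact hns (isSquare_of_fix hc)

theorem oact₂ (h : Hyp j f₁ f₂ H) {s : G} (hs : s ∈ H) (h2 : s * s = 1) (hY : s ∉ YY f₁ f₂) :
    ∃ g : GL (Fin 2) F₂, g.1.trace = 0 ∧ ¬ IsSquare g.1.det ∧ (∀ x, gc g (gc g x) = x) ∧
      ∀ x, s * f₂ x * s⁻¹ = f₂ (gc g x) := oact h.symm hs h2 (YY_symm f₁ f₂ ▸ hY)

theorem cent_Y (h : Hyp j f₁ f₂ H) {c : G} (hc : c ∈ H) (h1 : ∀ x, c * f₁ x = f₁ x * c)
    (h2 : ∀ x, c * f₂ x = f₂ x * c) : c = 1 ∨ c = j := by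
  obtain ⟨g, hg, hd⟩ := h.act₁ c hc
  obtain ⟨y, rfl⟩ := h.cent_Y₁ (hd.1 (isSquare_of_fix fun x => h.inj₁ (by
    rw [← hg, h1, mul_inv_cancel_right]))) h1
  rcases sl2_center (mem_center_iff.2 fun x => h.inj₂ (by rw [map_mul, map_mul, h2]) :
    y ∈ center (SL2 F₂)) with rfl | rfl
  exacts [Or.inl (map_one _), Or.inr h.neg₂]

omit [Finite G] [Finite F₁] [Finite F₂] in
theorem act_conj (h : Hyp j f₁ f₂ H) {s s' : G} {g g' : GL (Fin 2) F₁} {y : SL2 F₁} (b : SL2 F₂)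
    (hg : ∀ x, s * f₁ x * s⁻¹ = f₁ (gc g x)) (hg' : ∀ x, s' * f₁ x * s'⁻¹ = f₁ (gc g' x))
    (hy : ∀ x, y * gc g x * y⁻¹ = gc g' (y * x * y⁻¹)) (x : SL2 F₁) :
    s'⁻¹ * (f₁ y * f₂ b * s * (f₁ y * f₂ b)⁻¹) * f₁ x =
      f₁ x * (s'⁻¹ * (f₁ y * f₂ b * s * (f₁ y * f₂ b)⁻¹)) := by
  obtain ⟨x, rfl⟩ : ∃ z, x = y * z * y⁻¹ := ⟨y⁻¹ * x * y, by group⟩
  have e := hg' (y * x * y⁻¹)
  rw [← hy, ← h.conj_f₁ y (gc g x) b, ← hg] at e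
  have e' := h.conj_f₁ y x b
  generalize f₁ y * f₂ b = w at e e' ⊢
  generalize f₁ (y * x * y⁻¹) = z at e e' ⊢
  calc s'⁻¹ * (w * s * w⁻¹) * z = s'⁻¹ * (w * (s * f₁ x * s⁻¹) * w⁻¹) * (w * s * w⁻¹) := by
        rw [← e']; group
    _ = _ := by rw [← e]; group

end Outer

open Outer

/-- Outer involutions of `H` are conjugate under `Y`. -/
theorem Hyp.outer_conj (h : Hyp j f₁ f₂ H) {s s' : G} (hs : s ∈ H) (hs' : s' ∈ H) (h2 : s * s = 1) (h2' : s' * s' = 1)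
    (hY : s ∉ YY f₁ f₂) (hY' : s' ∉ YY f₁ f₂) : ∃ y ∈ YY f₁ f₂, y * s * y⁻¹ = s' := by
  obtain ⟨g₁, a1, a2, -, a3⟩ := oact h hs h2 hY
  obtain ⟨g₁', b1, b2, -, b3⟩ := oact h hs' h2' hY'
  obtain ⟨g₂, c1, c2, -, c3⟩ := oact₂ h hs h2 hY
  obtain ⟨g₂', d1, d2, -, d3⟩ := oact₂ h hs' h2' hY'
  obtain ⟨y₁, hy₁⟩ := conj_of_trace_zero h.two₁ a1 b1 (iff_of_false a2 b2)
  obtain ⟨y₂, hy₂⟩ := conj_of_trace_zero h.two₂ c1 d1 (iff_of_false c2 d2)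
  have yY : f₁ y₁ * f₂ y₂ ∈ YY f₁ f₂ := mul_mem (h.f₁_Y _) (h.f₂_Y _)
  rcases cent_Y h (H.mul_mem (H.inv_mem hs') (H.mul_mem (H.mul_mem (h.Yle yY) hs)
    (H.inv_mem (h.Yle yY)))) (act_conj h y₂ a3 b3 hy₁)
    (h.comm y₁ y₂ ▸ act_conj h.symm y₁ c3 d3 hy₂) with e | e
  · exact ⟨_, yY, (inv_mul_eq_one.1 e).symm⟩
  · obtain ⟨n, hn⟩ := exists_anti h.two₁ b1
    refine ⟨f₁ n * (f₁ y₁ * f₂ y₂), mul_mem (h.f₁_Y _) yY, ?_⟩
    have e1 := b3 n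
    rw [hn, h.f₁_neg, mul_inv_eq_iff_eq_mul] at e1
    rw [inv_mul_eq_iff_eq_mul] at e
    calc _ = f₁ n * (f₁ y₁ * f₂ y₂ * s * (f₁ y₁ * f₂ y₂)⁻¹) * (f₁ n)⁻¹ := by group
      _ = _ := by rw [e, h.hle s' hs', ← mul_assoc, ← e1, mul_inv_cancel_right]

theorem Outer.conj_j (h : Hyp j f₁ f₂ H) {s : G} (h2 : s * s = 1) (h1 : s ≠ 1) (hc : s * j = j * s) :
    ∃ g : G, g * j * g⁻¹ = s := by
  by_cases hY : s ∈ YY f₁ f₂
  · rcases h.inv_Y hY h2 with e | e | ⟨i₁, i₂, a1, a2, rfl⟩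
    · exact absurd e h1
    · exact ⟨1, by rw [e]; group⟩
    · obtain ⟨g, hg, -⟩ := h.swap_inner a1 a2
      exact ⟨g, hg⟩
  · obtain ⟨g, a1, a2⟩ := h.exists_outer
    obtain ⟨y, -, e⟩ := h.outer_conj a1 (h.mem_H_of_inv hc h2) (by rw [conj_mul, h.jj]; group) h2 a2 hY
    exact ⟨y * g, by rw [← e]; group⟩

theorem Hyp.sylow (h : Hyp j f₁ f₂ H) : ∃ S : Sylow 2 G, j ∈ (S : Subgroup G) ∧ ∀ s ∈ (S : Subgroup G), s * j = j * s := by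
  have := Fact.mk Nat.prime_two
  have hj : IsPGroup 2 (zpowers j) := IsPGroup.of_card (n := 1) (by
    rw [Nat.card_zpowers, orderOf_eq_prime (by rw [sq, h.jj]) h.j1, pow_one])
  obtain ⟨P, hP⟩ := hj.exists_le_sylow
  have jP : j ∈ (P : Subgroup G) := hP (mem_zpowers j)
  have : Nontrivial P := ⟨⟨j, jP⟩, 1, fun e => h.j1 (congrArg Subtype.val e)⟩
  obtain ⟨z, -, hz, ho⟩ := H3.exists_mem_center_orderOf_eq P.isPGroup' ⊤ top_ne_bot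
  have hc : ∀ x ∈ (P : Subgroup G), x * z = z * x := fun x hx =>
    congrArg Subtype.val (mem_center_iff.1 hz ⟨x, hx⟩)
  obtain ⟨g, hg⟩ := conj_j h (s := z) (by
    have := pow_orderOf_eq_one z
    rw [ho, sq] at this; exact congrArg Subtype.val this)
    (fun e => by rw [show z = 1 from Subtype.ext e, orderOf_one] at ho; omega) (hc j jP).symm
  refine ⟨g⁻¹ • P, ?_, fun s hs => ?_⟩
  · exact ⟨z, z.2, by simp [← hg, mul_assoc]⟩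
  · obtain ⟨x, hx, rfl⟩ := hs
    have := comm_conj (g := g⁻¹) (hc x hx)
    simpa [← hg, mul_assoc] using this

/-- All involutions of `G` are conjugate. -/
theorem Hyp.exists_conj (h : Hyp j f₁ f₂ H) {s : G} (h2 : s * s = 1) (h1 : s ≠ 1) : ∃ g : G, g * j * g⁻¹ = s := by
  have := Fact.mk Nat.prime_two
  obtain ⟨S, -, hS⟩ := h.sylow
  have hs : IsPGroup 2 (zpowers s) := IsPGroup.of_card (n := 1) (by
    rw [Nat.card_zpowers, orderOf_eq_prime (by rw [sq, h2]) h1, pow_one])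
  obtain ⟨P, hP⟩ := hs.exists_le_sylow
  obtain ⟨k, rfl⟩ := MulAction.exists_smul_eq G S P
  obtain ⟨x, hx, e⟩ := hP (mem_zpowers s)
  have e' : k * x * k⁻¹ = s := e
  obtain ⟨g, hg⟩ := conj_j h (s := x) (by rwa [← e', conj_mul, conj_eq_one_iff] at h2)
    (fun e1 => h1 (by rw [← e', e1]; group)) (hS x hx)
  exact ⟨k * g, by rw [← e', ← hg]; group⟩

theorem Hyp.swap (h : Hyp j f₁ f₂ H) {u : G} (h2 : u * u = 1) (h1 : u ≠ 1) (hj : u ≠ j) (hc : u * j = j * u) :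
    ∃ g : G, g * j * g⁻¹ = u ∧ g * u * g⁻¹ = j := by
  by_cases hY : u ∈ YY f₁ f₂
  · rcases h.inv_Y hY h2 with e | e | ⟨i₁, i₂, a1, a2, rfl⟩
    exacts [absurd e h1, absurd e hj, h.swap_inner a1 a2]
  obtain ⟨g, rfl⟩ := conj_j h h2 h1 hc
  have c1 : g⁻¹ * j * g * j = j * (g⁻¹ * j * g) := comm_conj_iff.1 hc.symm
  have c2 : g⁻¹ * j * g * (g⁻¹ * j * g) = 1 := by
    calc _ = g⁻¹ * (j * j) * g := by group
      _ = 1 := by rw [h.jj]; group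
  by_cases hY' : g⁻¹ * j * g ∈ YY f₁ f₂
  · exfalso
    rcases h.inv_Y hY' c2 with e | e | ⟨i₁, i₂, a1, a2, e⟩
    · exact h.j1 (by simpa [mul_assoc] using congrArg (fun x => g * x * g⁻¹) e)
    · exact hj (by simpa [mul_assoc] using (congrArg (fun x => g * x * g⁻¹) e).symm)
    · obtain ⟨k, b1, b2⟩ := h.swap_inner a1 a2
      rw [← e] at b1 b2
      have c3 : g * k⁻¹ * j = j * (g * k⁻¹) := by
        nth_rewrite 1 [← b2]; group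
      have := h.Y_norm c3 hY'
      rw [← b1] at this
      exact hY (by simpa [mul_assoc] using this)
  · obtain ⟨y, hy, e⟩ := h.outer_conj (h.mem_H_of_inv c1 c2) (h.mem_H_of_inv hc h2) c2 h2 hY' hY
    refine ⟨y * g⁻¹, by rw [← e]; group, ?_⟩
    calc _ = y * j * y⁻¹ := by group
      _ = j := by rw [h.hle y (h.Yle hy), mul_inv_cancel_right]

theorem Outer.tor0 (h : Hyp j f₁ f₂ H) {u : G} (h2 : u * u = 1) (hc : u * j = j * u)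
    (hY : u ∉ YY f₁ f₂) : ∃ T n₁ n₂, Tor0 j f₁ f₂ H u T n₁ n₂ := by
  have uH := h.mem_H_of_inv hc h2
  obtain ⟨g₁, a1, a2, a3, a4⟩ := oact h uH h2 hY
  obtain ⟨g₂, b1, -, -, b4⟩ := oact₂ h uH h2 hY
  obtain ⟨n₁, hn₁⟩ := exists_anti h.two₁ a1
  obtain ⟨n₂, hn₂⟩ := exists_anti h.two₂ b1
  have ui : u⁻¹ = u := inv_eq_of_mul_eq_one_right h2
  have ucj : ∀ x y, u * (f₁ x * f₂ y) * u⁻¹ = f₁ (gc g₁ x) * f₂ (gc g₂ y) := fun x y => by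
    rw [← conj_mul, a4, b4]
  let A : Subgroup G :=
    { carrier := {t | ∃ x ∈ tor g₁, ∃ y ∈ tor g₂, t = f₁ x * f₂ y}
      one_mem' := ⟨1, one_mem _, 1, one_mem _, by simp⟩
      mul_mem' := by
        rintro _ _ ⟨x, hx, y, hy, rfl⟩ ⟨x', hx', y', hy', rfl⟩
        exact ⟨_, mul_mem hx hx', _, mul_mem hy hy', h.mul_mul _ _ _ _⟩
      inv_mem' := by
        rintro _ ⟨x, hx, y, hy, rfl⟩
        exact ⟨_, inv_mem hx, _, inv_mem hy, by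
          rw [h.comm x⁻¹, map_inv, map_inv, _root_.mul_inv_rev]⟩ }
  have AY : A ≤ YY f₁ f₂ := by
    rintro _ ⟨x, -, y, -, rfl⟩
    exact mul_mem (h.f₁_Y _) (h.f₂_Y _)
  have Au : ∀ a ∈ A, Commute u a := by
    rintro _ ⟨x, hx, y, hy, rfl⟩
    exact mul_inv_eq_iff_eq_mul.1 (by rw [ucj, mem_tor.1 hx, mem_tor.1 hy])
  have AA : ∀ a ∈ A, ∀ b ∈ A, Commute a b := by
    rintro _ ⟨x, hx, y, hy, rfl⟩ _ ⟨x', hx', y', hy', rfl⟩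
    change _ * _ = _ * _
    rw [h.mul_mul, h.mul_mul, tor_comm h.two₁ a1 hx hx', tor_comm h.two₂ b1 hy hy']
  have uu : ∀ x : G, x * u * u = x := fun x => by rw [mul_assoc, h2, mul_one]
  let T : Subgroup G :=
    { carrier := {t | ∃ a ∈ A, t = a ∨ t = a * u}
      one_mem' := ⟨1, one_mem _, Or.inl rfl⟩
      mul_mem' := by
        rintro _ _ ⟨a, ha, rfl | rfl⟩ ⟨b, hb, rfl | rfl⟩ <;> refine ⟨_, mul_mem ha hb, ?_⟩
        · exact Or.inl rfl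
        · exact Or.inr (mul_assoc _ _ _).symm
        · exact Or.inr (by rw [mul_assoc, (Au _ hb).eq, mul_assoc])
        · exact Or.inl (by rw [mul_assoc, ← mul_assoc u, (Au _ hb).eq, uu])
      inv_mem' := by
        rintro _ ⟨a, ha, rfl | rfl⟩ <;> refine ⟨_, inv_mem ha, ?_⟩
        · exact Or.inl rfl
        · exact Or.inr (by rw [_root_.mul_inv_rev, ui, (Au _ (inv_mem ha)).eq]) }
  have AT : A ≤ T := fun a ha => ⟨a, ha, Or.inl rfl⟩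
  have uT : u ∈ T := ⟨1, one_mem _, Or.inr (one_mul u).symm⟩
  have Tc : ∀ a ∈ T, ∀ b ∈ T, a * b = b * a := by
    rintro _ ⟨a, ha, rfl | rfl⟩ _ ⟨b, hb, rfl | rfl⟩
    · exact AA _ ha _ hb
    · exact (AA _ ha _ hb).mul_right (Au _ ha).symm
    · exact (AA _ ha _ hb).mul_left (Au _ hb)
    · exact ((AA _ ha _ hb).mul_right (Au _ ha).symm).mul_left ((Au _ hb).mul_right (Commute.refl u))
  have m₁ : ∀ x ∈ tor g₁, f₁ x ∈ T := fun x hx => AT ⟨x, hx, 1, one_mem _, by simp⟩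
  have m₂ : ∀ x ∈ tor g₂, f₂ x ∈ T := fun x hx => AT ⟨1, one_mem _, x, hx, by simp⟩
  have jj : ∀ (x : SL2 F₁) (y : SL2 F₂), f₁ (-x) * f₂ (-y) = f₁ x * f₂ y := fun x y => by
    rw [h.f₁_neg, h.f₂_neg, h.f₂_j, mul_assoc, ← mul_assoc j, h.jj, one_mul]
  have nu : f₁ n₁ * f₂ n₂ * u * (f₁ n₁ * f₂ n₂)⁻¹ = u := by
    have := ucj n₁ n₂
    rw [hn₁, hn₂, jj, mul_inv_eq_iff_eq_mul] at this
    rw [← this, mul_inv_cancel_right]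
  have nA : ∀ a ∈ A, f₁ n₁ * f₂ n₂ * a * (f₁ n₁ * f₂ n₂)⁻¹ = a⁻¹ := by
    rintro _ ⟨x, hx, y, hy, rfl⟩
    rw [← conj_mul, h.conj_f₁, h.conj_f₂, anti_inv h.two₁ hn₁ hx, anti_inv h.two₂ hn₂ hy,
      h.comm x⁻¹, map_inv, map_inv, _root_.mul_inv_rev]
  have cY : ∀ c ∈ YY f₁ f₂, c * u = u * c → c ∈ A ∨ f₁ n₁ * f₂ n₂ * c ∈ A := by
    intro c hc e
    obtain ⟨x, y, rfl⟩ := h.mem_Y.1 hc
    have e1 := ucj x y
    rw [← e, mul_inv_cancel_right] at e1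
    rcases h.eq_pm e1.symm with ⟨e2, e3⟩ | ⟨e2, e3⟩
    · exact Or.inl ⟨x, e2, y, e3, rfl⟩
    · exact Or.inr ⟨n₁ * x, by rw [mem_tor, map_mul, hn₁, e2, neg_mul_neg], n₂ * y,
        by rw [mem_tor, map_mul, hn₂, e3, neg_mul_neg], h.mul_mul _ _ _ _⟩
  have oA : ∀ a ∈ A, a * a = 1 → a = 1 ∨ a = j := by
    rintro _ ⟨x, hx, y, hy, rfl⟩ e
    rw [h.mul_mul] at e
    rcases h.eq_pm (a' := 1) (b' := 1) (by rw [e]; simp) with ⟨e2, e3⟩ | ⟨e2, -⟩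
    · rcases sl_sq_one h.two₁ e2 with rfl | rfl <;> rcases sl_sq_one h.two₂ e3 with rfl | rfl <;>
        simp [h.neg₁, h.neg₂, h.jj]
    · exact absurd (isSquare_of_four h.two₁ a3 e2 hx) a2
  refine ⟨T, n₁, n₂, h2, fun e => hY (e ▸ one_mem _), fun e => hY (e ▸ h.j_Y), ?_, Tc, uT,
    fun x => ⟨Tc u uT _, fun e => m₁ x (h.inj₁ (by rw [← a4, e, mul_inv_cancel_right]; rfl))⟩,
    fun x => ⟨Tc u uT _, fun e => m₂ x (h.inj₂ (by rw [← b4, e, mul_inv_cancel_right]; rfl))⟩,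
    ?_, ⟨u, uT, hY⟩, anti_sq h.two₁ hn₁, anti_sq h.two₂ hn₂, by rw [a4, hn₁, h.f₁_neg],
    by rw [b4, hn₂, h.f₂_neg], ?_, fun c hc e => ?_, ?_⟩
  · rintro _ ⟨a, ha, rfl | rfl⟩
    exacts [h.Yle (AY ha), mul_mem (h.Yle (AY ha)) uH]
  · rintro _ ⟨a, ha, rfl | rfl⟩ hy
    · obtain ⟨x, hx, y, hy', rfl⟩ := ha
      exact ⟨x, y, m₁ x hx, m₂ y hy', rfl⟩
    · exact absurd ((mul_mem_cancel_left (AY ha)).1 hy) hY
  · rintro _ ⟨a, ha, rfl | rfl⟩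
    · exact nA _ ha
    · rw [← conj_mul, nA _ ha, nu, ← (Au _ ha).eq, _root_.mul_inv_rev, ui]
  · by_cases hcY : c ∈ YY f₁ f₂
    · exact (cY c hcY e).imp (@AT _) (@AT _)
    · refine (cY (c * u) ((h.mul_mem_Y hc uH).2 (iff_of_false hcY hY))
        (by rw [← mul_assoc, ← e])).imp (fun k => ⟨_, k, Or.inr (uu _).symm⟩)
        fun k => ⟨_, k, Or.inr ?_⟩
      rw [← mul_assoc, uu]
  · rintro _ ⟨a, ha, rfl | rfl⟩ e
    · exact (oA _ ha e).imp id Or.inl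
    · rw [mul_assoc, ← mul_assoc u, (Au _ ha).eq, uu] at e
      rcases oA _ ha e with rfl | rfl
      · exact Or.inr (Or.inr (Or.inl (one_mul u)))
      · exact Or.inr (Or.inr (Or.inr hc.symm))

theorem Hyp.exists_tor (h : Hyp j f₁ f₂ H) {u : G} (h2 : u * u = 1) (h1 : u ≠ 1) (hj : u ≠ j) (hc : u * j = j * u) :
    ∃ r T n₁ n₂, Tor j f₁ f₂ H u r T n₁ n₂ := by
  obtain ⟨T, n₁, n₂, t⟩ : ∃ T n₁ n₂, Tor0 j f₁ f₂ H u T n₁ n₂ := by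
    by_cases hY : u ∈ YY f₁ f₂
    · rcases h.inv_Y hY h2 with e | e | ⟨i₁, i₂, a1, a2, rfl⟩
      exacts [absurd e h1, absurd e hj, h.tor_inner a1 a2]
    · exact tor0 h h2 hc hY
  obtain ⟨g, g1, g2⟩ := h.swap h2 h1 hj hc
  have a1 : f₁ n₁ * j * (f₁ n₁)⁻¹ = j := by rw [h.f₁_j, mul_inv_cancel_right]
  obtain ⟨r, hr⟩ : ∃ r, r = f₁ n₁ * (g * f₁ n₁ * g⁻¹) := ⟨_, rfl⟩
  have rj : r * j * r⁻¹ = u := by
    calc r * j * r⁻¹ = f₁ n₁ * (g * (f₁ n₁ * u * (f₁ n₁)⁻¹) * g⁻¹) * (f₁ n₁)⁻¹ := by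
          rw [hr, ← g2]; group
      _ = u := by
          have : g * (u * j) * g⁻¹ = u * j := by rw [← conj_mul, g1, g2, hc]
          rw [t.n₁_u h, this, t.n₁_uj h]
  have ru : r * u * r⁻¹ = u * j := by
    calc r * u * r⁻¹ = f₁ n₁ * (g * (f₁ n₁ * j * (f₁ n₁)⁻¹) * g⁻¹) * (f₁ n₁)⁻¹ := by
          rw [hr, ← g1]; group
      _ = u * j := by rw [a1, g1, t.n₁_u h]
  have ruj : r * (u * j) * r⁻¹ = j := by
    rw [← conj_mul, ru, rj, mul_assoc, ← hc, ← mul_assoc, h2, one_mul]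
  have rj' : r⁻¹ * j * r = u * j := by nth_rewrite 1 [← ruj]; group
  have ru' : r⁻¹ * u * r = j := by rw [← rj]; group
  obtain ⟨m, hm⟩ := h.norm₁ (r⁻¹ * g) (by
    rw [← mul_inv_eq_iff_eq_mul]
    calc _ = r⁻¹ * (g * j * g⁻¹) * r := by group
      _ = j := by rw [g1, ru']) n₁
  refine ⟨r, T, n₁, n₂, t, rj, ru, fun s => ⟨fun hs => ?_, fun hs => t.norm h (rj ▸ t.uT)
    (ru ▸ t.ujT h) (rj' ▸ t.ujT h) (ru' ▸ t.jT h) hs⟩, m, ?_⟩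
  · have := t.norm h (g := r⁻¹) (by rw [inv_inv, rj']; exact t.ujT h)
      (by rw [inv_inv, ru']; exact t.jT h) (by rw [inv_inv, rj]; exact t.uT)
      (by rw [inv_inv, ru]; exact t.ujT h) hs
    simpa [mul_assoc] using this
  · rw [← hm]
    nth_rewrite 1 [hr]
    group

theorem Hyp.exists_spl₁ (h : Hyp j f₁ f₂ H) : ∃ u : G, u * u = 1 ∧ u ≠ 1 ∧ u ≠ j ∧ u * j = j * u ∧ Spl f₁ u := by
  by_cases hs : IsSquare (-1 : F₁)
  · obtain ⟨a, ha⟩ := hs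
    have a0 : a ≠ 0 := fun e => by simp [e] at ha
    have e : Units.mk0 a a0 * Units.mk0 a a0 = -1 := Units.ext ha.symm
    have e' : hh (Units.mk0 a a0) * hh (Units.mk0 a a0) = -1 := by
      rw [← hh_mul, e]
      apply sl2_ext <;> simp
    exact ⟨f₁ (hh (Units.mk0 a a0)) * f₂ ww, h.inner_sq e' ww_sq, (h.inner_ne e').1,
      (h.inner_ne e').2, h.mul_j (h.f₁_j _) (h.f₂_j _), fun x => by rw [h.conj_f₁, hh_conj, e]⟩
  obtain ⟨g, a1, a2⟩ := h.exists_outer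
  have a3 : g * j * g⁻¹ * (g * j * g⁻¹) = 1 := by rw [conj_mul, h.jj]; group
  generalize g * j * g⁻¹ = s at a1 a2 a3
  obtain ⟨g₁, b1, b2, -, b3⟩ := oact h a1 a3 a2
  obtain ⟨y, hy⟩ := conj_of_trace_zero h.two₁ b1 trace_dgl_neg_one
    (iff_of_false b2 (by rw [det_dgl]; simpa using hs))
  have hY : f₁ y * s * (f₁ y)⁻¹ ∉ YY f₁ f₂ := fun k =>
    a2 ((mul_mem_cancel_left (h.f₁_Y y)).1 ((mul_mem_cancel_right (inv_mem (h.f₁_Y y))).1 k))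
  refine ⟨f₁ y * s * (f₁ y)⁻¹, by rw [conj_mul, a3]; group, fun e => hY (e ▸ one_mem _),
    fun e => hY (e ▸ h.j_Y), h.hle _ (mul_mem (mul_mem (h.f₁_H y) a1) (inv_mem (h.f₁_H y))),
    fun x => ?_⟩
  obtain ⟨x, rfl⟩ : ∃ z, x = y * z * y⁻¹ := ⟨y⁻¹ * x * y, by group⟩
  rw [← gc_dgl, ← hy, map_mul, map_mul, map_mul, map_mul, map_inv, ← b3]
  group

end Cfsg.Agent.G2Q
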