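import Cfsg.Agent.G2Q.SLa
import Cfsg.Agent.H21.SL2Facts

/-! Subgroups of odd order of `SL₂(F)` normalised by a torus of `PGL₂(F)` and inverted by its involution. -/

set_option autoImplicit false

namespace Cfsg.Agent.G2Q

open Subgroup Matrix H90

namespace SLc

theorem ab_zero {F R : Type*} [Field F] [Ring R] [Algebra F R] [Nontrivial R] (h2 : (2 : F) ≠ 0)
    {G X X' : R} {a b e d : F} (hG : G * X = -(X * G)) (hX : X * X = e • (1 : R)) (he : e ≠ 0)
    (hGG : G * G = d • (1 : R)) (hd : d ≠ 0) (h1 : (a • 1 + b • G) * X = X' * (a • 1 + b • G))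
    (hc : X * X' = X' * X) : a = 0 ∨ b = 0 := by
  have k1 : X * (a • 1 + b • G) = (a • 1 - b • G) * X := by
    simp only [mul_add, sub_mul, mul_smul_comm, smul_mul_assoc, hG, mul_one, one_mul]; module
  have k2 : (a • 1 + b • G) * X = X * (a • 1 - b • G) := by
    simp only [add_mul, mul_sub, mul_smul_comm, smul_mul_assoc, hG, mul_one, one_mul]; module
  have E1 : X' * (a • 1 + b • G) = X * (a • 1 - b • G) := h1.symm.trans k2
  have E2 : X' * (a • 1 - b • G) = X * (a • 1 + b • G) := by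
    apply smul_right_injective R he
    calc e • (X' * (a • 1 - b • G)) = X' * ((a • 1 - b • G) * X) * X := by
          rw [mul_assoc, mul_assoc, hX, mul_smul_comm, mul_smul_comm, mul_one]
      _ = X * (X' * (a • 1 + b • G)) * X := by rw [← k1, ← mul_assoc, ← hc, mul_assoc X X']
      _ = e • (X * (a • 1 + b • G)) := by
          rw [E1, ← mul_assoc, hX, smul_mul_assoc, smul_mul_assoc, one_mul, k1]
  by_contra hne
  push Not at hne
  simp only [mul_add, mul_sub, mul_smul_comm, mul_one] at E1 E2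
  have e3 : X' = X := by
    apply smul_right_injective R (mul_ne_zero h2 hne.1)
    linear_combination (norm := module) E1 + E2
  rw [e3] at E1
  have e4 : (2 * b) • (X * G) = 0 := by linear_combination (norm := module) E1
  have e5 : X * (X * G) * G = 0 := by
    rw [(smul_eq_zero.mp e4).resolve_left (mul_ne_zero h2 hne.2), mul_zero, zero_mul]
  rw [← mul_assoc, hX, smul_mul_assoc, smul_mul_assoc, one_mul, hGG, smul_smul, smul_eq_zero] at e5
  exact e5.elim (mul_ne_zero he hd) one_ne_zero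

variable {F : Type*} [Field F]

theorem ch2 (A : Matrix (Fin 2) (Fin 2) F) : A * A = A.trace • A - A.det • 1 := by
  ext i j
  fin_cases i <;> fin_cases j <;>
    simp [Matrix.mul_apply, Fin.sum_univ_two, trace_fin_two, det_fin_two] <;> ring

theorem mul_coe (x y : SL2 F) : (x * y).1 = x.1 * y.1 := rfl

theorem neg_coe (x : SL2 F) : (-x).1 = -x.1 := rfl

theorem inv_coe (x : SL2 F) : (x⁻¹).1 = x.1.trace • 1 - x.1 := by
  change adjugate x.1 = _
  rw [adjugate_fin_two]
  ext i j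
  fin_cases i <;> fin_cases j <;> simp [trace_fin_two]

theorem det_ab {G : Matrix (Fin 2) (Fin 2) F} (h : G.trace = 0) (a b : F) :
    (a • 1 + b • G).det = a ^ 2 + b ^ 2 * G.det := by
  rw [trace_fin_two] at h
  simp [det_fin_two]
  linear_combination (a * b) * h

theorem trace_pow {y : SL2 F} (h : y.1.trace = 2) (k : ℕ) : (y ^ k).1.trace = 2 := by
  have h1 : (y.1 - 1) * y.1 = y.1 - 1 := by
    rw [sub_mul, ch2, h, y.2, one_mul]; module
  have h2 : (y ^ k).1 = 1 + (k : F) • (y.1 - 1) := by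
    induction k with
    | zero => simp
    | succ k ih =>
      rw [pow_succ, mul_coe, ih, add_mul, smul_mul_assoc, h1, one_mul]
      push_cast
      module
  rw [h2, trace_add, trace_smul, trace_sub, h]
  simp

theorem key (h2 : (2 : F) ≠ 0) {g : GL (Fin 2) F} (h : g.1.trace = 0) {x x' : SL2 F}
    (hx : gc g x = x⁻¹) (ht : x.1.trace ^ 2 - 4 ≠ 0) (hc : x * x' = x' * x)
    {T : Matrix (Fin 2) (Fin 2) F} (hT : T * g.1 = g.1 * T) (h1 : T * x.1 = x'.1 * T) :
    (∃ a : F, T = a • 1) ∨ ∃ b : F, T = b • g.1 := by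
  have hd : g.1.det ≠ 0 := (GeneralLinearGroup.det g).ne_zero
  obtain ⟨a, b, rfl⟩ := H21.eq_smul_add_of_commute (U := g.1) (fun c hc => by
    rw [hc, trace_smul, trace_one] at h
    have : c = 0 := by simpa [h2] using h
    rw [hc, this, zero_smul, det_zero] at hd
    exact hd rfl) hT
  rw [gc_eq_iff, inv_coe] at hx
  have hc' : x.1 * x'.1 = x'.1 * x.1 := congrArg Subtype.val hc
  rcases ab_zero h2 (G := g.1) (X := (2 : F) • x.1 - x.1.trace • 1)
    (X' := (2 : F) • x'.1 - x.1.trace • 1) (a := a) (b := b) (e := x.1.trace ^ 2 - 4)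
    (d := -g.1.det) (by
      simp only [mul_sub, sub_mul, mul_smul_comm, smul_mul_assoc, mul_one, one_mul, hx]; module)
    (by
      simp only [mul_sub, sub_mul, mul_smul_comm, smul_mul_assoc, mul_one, one_mul]
      rw [ch2, x.2]; module) ht (by rw [ch2, h]; module) (neg_ne_zero.mpr hd) (by
      rw [mul_sub, sub_mul, mul_smul_comm, smul_mul_assoc, h1, mul_smul_comm, smul_mul_assoc,
        mul_one, one_mul]) (by
      simp only [mul_sub, sub_mul, mul_smul_comm, smul_mul_assoc, mul_one, one_mul, hc']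
      module) with e | e
  · exact Or.inr ⟨b, by rw [e, zero_smul, zero_add]⟩
  · exact Or.inl ⟨a, by rw [e, zero_smul, add_zero]⟩

theorem isSquare_neg_det {g : GL (Fin 2) F} (h : g.1.trace = 0) {x : SL2 F} (hx : gc g x = x⁻¹)
    (ht : x.1.trace = 2) (h1 : x ≠ 1) : IsSquare (-g.1.det) := by
  rw [gc_eq_iff, inv_coe, ht] at hx
  have e0 := congrFun (congrFun hx 0) 0
  have hd := sl2_det x
  rw [trace_fin_two] at h ht
  simp [Matrix.mul_apply, Fin.sum_univ_two] at e0
  rw [det_fin_two]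
  have a1 : g.1 1 1 = -g.1 0 0 := by linear_combination h
  have a2 : x.1 1 1 = 2 - x.1 0 0 := by linear_combination ht
  rw [a2] at hd
  rw [a1]
  by_cases hv : x.1 0 1 = 0
  · have a3 : x.1 0 0 = 1 := by
      have : (x.1 0 0 - 1) ^ 2 = 0 := by rw [hv] at hd; linear_combination -hd
      exact sub_eq_zero.mp (pow_eq_zero_iff two_ne_zero |>.mp this)
    have a4 : x.1 1 0 ≠ 0 := fun h0 => h1 (by
      apply sl2_ext <;> simp [a2, a3, hv, h0]; norm_num)
    have a5 : g.1 0 1 = 0 := by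
      apply mul_right_cancel₀ a4
      rw [a3, hv] at e0
      linear_combination e0
    exact ⟨g.1 0 0, by rw [a5]; ring⟩
  · refine ⟨g.1 0 0 - g.1 0 1 * (x.1 0 0 - 1) / x.1 0 1, ?_⟩
    field_simp
    linear_combination (g.1 0 1 * x.1 0 1) * e0 + (g.1 0 1) ^ 2 * hd

theorem isSquare_mul [Finite F] {a b : F} (ha : ¬ IsSquare a) (hb : ¬ IsSquare b) :
    IsSquare (a * b) := by
  classical
  have := Fintype.ofFinite F
  have a0 : a ≠ 0 := fun e => ha (e ▸ IsSquare.zero)
  have b0 : b ≠ 0 := fun e => hb (e ▸ IsSquare.zero)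
  rw [← quadraticChar_one_iff_isSquare (mul_ne_zero a0 b0), map_mul,
    quadraticChar_neg_one_iff_not_isSquare.mpr ha, quadraticChar_neg_one_iff_not_isSquare.mpr hb]
  norm_num

theorem diag {P : Subgroup (SL2 F)} (h2 : (2 : F) ≠ 0) (hP : P ≠ ⊥)
    (hinv : ∀ x ∈ P, dc (-1) x = x⁻¹) (htr : ∀ x ∈ P, x.1.trace = 2)
    (hc : ∀ x ∈ P, ∀ y ∈ P, x * y = y * x) (hd : ∀ a, ∀ x ∈ P, dc a x ∈ P) :
    (∀ x, x ∈ P ↔ ∃ a, x = xu a) ∨ ∀ x, x ∈ P ↔ ∃ a, x = xl a := by
  have k : ∀ x ∈ P, (∃ a, x = xu a) ∨ ∃ a, x = xl a := by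
    intro x hx
    have e0 : (dc (-1) x).1 0 0 = (x⁻¹).1 0 0 := by rw [hinv x hx]
    have ht := htr x hx
    have hdet := sl2_det x
    rw [dc00, inv_coe, ht] at e0
    rw [trace_fin_two] at ht
    simp at e0
    have a1 : x.1 0 0 = 1 := mul_left_cancel₀ h2 (by linear_combination e0)
    have a2 : x.1 1 1 = 1 := by linear_combination ht - a1
    rw [a1, a2] at hdet
    rcases mul_eq_zero.mp (show x.1 0 1 * x.1 1 0 = 0 by linear_combination -hdet) with e | e
    · exact Or.inr ⟨x.1 1 0, by apply sl2_ext <;> simp [a1, a2, e]⟩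
    · exact Or.inl ⟨x.1 0 1, by apply sl2_ext <;> simp [a1, a2, e]⟩
  have kc : ∀ a b : F, xu a * xl b = xl b * xu a → a * b = 0 := fun a b e => by
    have := congrArg (fun z : SL2 F => z.1 0 0) e
    simpa [sl2_mul_apply] using this
  obtain ⟨⟨x0, hx0⟩, h1⟩ := ne_bot_iff_exists_ne_one.mp hP
  have h1' : x0 ≠ 1 := fun e => h1 (Subtype.ext e)
  rcases k x0 hx0 with ⟨b, rfl⟩ | ⟨b, rfl⟩
  · have b0 : b ≠ 0 := fun e => h1' (xu_eq_one.mpr e)
    refine Or.inl fun x => ⟨fun hx => (k x hx).elim id ?_, ?_⟩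
    · rintro ⟨c, rfl⟩
      exact ⟨0, by rw [(mul_eq_zero.mp (kc b c (hc _ hx0 _ hx))).resolve_left b0, xl_zero, xu_zero]⟩
    · rintro ⟨a, rfl⟩
      by_cases a0 : a = 0
      · rw [a0, xu_zero]; exact P.one_mem
      · have := hd (Units.mk0 (a / b) (div_ne_zero a0 b0)) _ hx0
        rwa [dc_xu, Units.val_mk0, div_mul_cancel₀ _ b0] at this
  · have b0 : b ≠ 0 := fun e => h1' (xl_eq_one.mpr e)
    refine Or.inr fun x => ⟨fun hx => (k x hx).elim ?_ id, ?_⟩
    · rintro ⟨c, rfl⟩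
      exact ⟨0, by rw [(mul_eq_zero.mp (kc c b (hc _ hx _ hx0))).resolve_right b0, xl_zero, xu_zero]⟩
    · rintro ⟨a, rfl⟩
      by_cases a0 : a = 0
      · rw [a0, xl_zero]; exact P.one_mem
      · have := hd (Units.mk0 (b / a) (div_ne_zero b0 a0)) _ hx0
        rwa [dc_xl, Units.val_mk0, inv_div, div_mul_cancel₀ _ b0] at this

end SLc

variable {F : Type*} [Field F] [Finite F]

open SLc in
theorem jcore (h2 : (2 : F) ≠ 0) {g t₀ : GL (Fin 2) F} (h : g.1.trace = 0) (hc : t₀ * g = g * t₀)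
    (hs : ¬ IsSquare t₀.1.det) (P : Subgroup (SL2 F)) (ho : Odd (Nat.card P)) (hP : P ≠ ⊥)
    (hinv : ∀ x ∈ P, gc g x = x⁻¹) (hT : ∀ s ∈ tor g, ∀ x ∈ P, s * x * s⁻¹ ∈ P) (h0 : ∀ x ∈ P, gc t₀ x ∈ P) :
    ∃ y : SL2 F, (∀ x, gc g (y * x * y⁻¹) = y * dc (-1) x * y⁻¹) ∧ ∀ x, x ∈ P ↔ ∃ a, x = y * xu a * y⁻¹ := by
  have h4 : (4 : F) ≠ 0 := by
    rw [show (4 : F) = 2 * 2 by norm_num]; exact mul_ne_zero h2 h2
  have hcomm : ∀ x ∈ P, ∀ y ∈ P, x * y = y * x := fun x hx y hy => by
    have := hinv _ (P.mul_mem hx hy)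
    rw [map_mul, hinv x hx, hinv y hy, ← _root_.mul_inv_rev] at this
    exact (inv_injective this).symm
  have hn : ∀ x ∈ P, x ^ Nat.card P = 1 := fun x hx =>
    congrArg Subtype.val (pow_card_eq_one' (x := (⟨x, hx⟩ : P)))
  have htr : ∀ x ∈ P, x.1.trace = 2 := by
    intro x hx
    by_cases ht : x.1.trace ^ 2 - 4 = 0
    · rcases mul_eq_zero.mp (show (x.1.trace - 2) * (x.1.trace + 2) = 0 by
        linear_combination ht) with e | e
      · exact sub_eq_zero.mp e
      · have := trace_pow (y := -x) (by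
          rw [neg_coe, trace_neg]; linear_combination -e) (Nat.card P)
        rw [ho.neg_pow, hn x hx, neg_coe, trace_neg] at this
        simp at this
        exact absurd (by linear_combination -this) h4
    exfalso
    have hg : ¬ IsSquare g.1.det := by
      rcases key h2 h (hinv x hx) ht (hcomm x hx _ (h0 x hx)) (T := t₀.1)
        (congrArg Units.val hc) (gc_eq_iff.mp rfl) with ⟨a, e⟩ | ⟨b, e⟩
      · exact absurd ⟨a, by rw [e]; simp [sq]⟩ hs
      · rintro ⟨c, hc⟩
        exact hs ⟨b * c, by rw [e, det_smul, hc]; simp; ring⟩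
    have hle : (tor g : Set (SL2 F)) ⊆ {1, -1} := by
      intro s hs
      rcases key h2 h (hinv x hx) ht (hcomm x hx _ (hT s hs x hx)) (T := s.1)
        (mem_tor'.mp hs).symm (by
          rw [← mul_coe, ← mul_coe, inv_mul_cancel_right])
        with ⟨a, e⟩ | ⟨b, e⟩
      · have hd := s.2
        rw [e, det_smul, det_one, mul_one, Fintype.card_fin, sq] at hd
        exact sq_eq_one h2 (Subtype.ext (by
          rw [mul_coe, e, smul_mul_smul_comm, hd, one_smul, one_mul]; rfl))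
      · have hd := s.2
        rw [e, det_smul, Fintype.card_fin] at hd
        have b0 : b ≠ 0 := by rintro rfl; simp at hd
        exact absurd ⟨b⁻¹, by field_simp; linear_combination hd⟩ hg
    have c1 : Nat.card (tor g) ≤ 2 :=
      (Set.ncard_le_ncard hle).trans ((Set.ncard_insert_le _ _).trans (by simp))
    have c2 : Nat.card F ≤ 3 := by
      by_cases hq : IsSquare (-g.1.det)
      · have := card_tor_of_isSquare h2 h hq; omega
      · have := card_tor_of_not_isSquare h2 h hq; omega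
    have t0 : x.1.trace = 0 := by
      by_contra t0
      have a1 : x.1.trace ≠ 2 := fun e => ht (by rw [e]; norm_num)
      have a2 : x.1.trace ≠ -2 := fun e => ht (by rw [e]; norm_num)
      have a3 : (2 : F) ≠ -2 := fun e => h4 (by linear_combination e)
      have : ({x.1.trace, 0, 2, -2} : Set F).ncard = 4 := by
        rw [Set.ncard_insert_of_notMem (by simp [t0, a1, a2]),
          Set.ncard_insert_of_notMem (by simp [h2, h2.symm]), Set.ncard_pair a3]
      have := Set.ncard_le_card ({x.1.trace, 0, 2, -2} : Set F)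
      omega
    have a1 := sq_neg_iff.mpr t0
    have a2 : (x * x) ^ Nat.card P = 1 := hn _ (P.mul_mem hx hx)
    rw [a1, ho.neg_one_pow] at a2
    exact neg_ne_one h2 a2
  obtain ⟨⟨x0, hx0⟩, h1⟩ := ne_bot_iff_exists_ne_one.mp hP
  have h1' : x0 ≠ 1 := fun e => h1 (Subtype.ext e)
  obtain ⟨r, hr⟩ := isSquare_neg_det h (hinv x0 hx0) (htr x0 hx0) h1'
  have r0 : r ≠ 0 := fun e => (GeneralLinearGroup.det g).ne_zero (by
    rw [e, mul_zero, neg_eq_zero] at hr; exact hr)
  obtain ⟨y, hy⟩ := conj_of_trace_zero h2 h trace_dgl_neg_one (by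
    rw [det_dgl, Units.val_neg, Units.val_one]
    constructor
    · rintro ⟨c, hc⟩
      exact ⟨c / r, by field_simp; linear_combination hc + hr⟩
    · rintro ⟨c, hc⟩
      exact ⟨c * r, by linear_combination -hr + (r * r) * hc⟩)
  have hy' : ∀ x, gc g (y⁻¹ * x * y⁻¹⁻¹) = y⁻¹ * dc (-1) x * y⁻¹⁻¹ := fun x => by
    rw [← gc_dgl, show x = y * (y⁻¹ * x * y⁻¹⁻¹) * y⁻¹ by group, ← hy]; group
  generalize y⁻¹ = z at hy'
  have hsq : ∀ a : Fˣ, ∀ x, z * x * z⁻¹ ∈ P → z * dc (a * a) x * z⁻¹ ∈ P := by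
    intro a x hx
    have := hT (z * hh a * z⁻¹) (by rw [mem_tor, hy', (mem_tor_dgl h2).mpr ⟨a, rfl⟩]) _ hx
    rw [← hh_conj]
    convert this using 1
    group
  obtain ⟨c, hc1, hc2⟩ : ∃ c : Fˣ, ¬ IsSquare (c : F) ∧
      ∀ x, z * x * z⁻¹ ∈ P → z * dc c x * z⁻¹ ∈ P := by
    let Z := SpecialLinearGroup.toGL z
    have e1 : ∀ (t : GL (Fin 2) F) x, gc (Z⁻¹ * t * Z) x = z⁻¹ * gc t (z * x * z⁻¹) * z⁻¹⁻¹ := by
      intro t x
      rw [gc_mul, gc_mul, ← map_inv, gc_toGL, gc_toGL]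
    obtain ⟨s, hs'⟩ := scalar_of_fix (g := (dgl (-1))⁻¹ * (Z⁻¹ * g * Z)) fun x => by
      rw [gc_mul, e1, hy', show z⁻¹ * (z * dc (-1) x * z⁻¹) * z⁻¹⁻¹ = dc (-1) x by group,
        ← gc_dgl, ← gc_mul, inv_mul_cancel, gc_one]
    have e2 : ∀ t : GL (Fin 2) F, t * ((dgl (-1))⁻¹ * (Z⁻¹ * g * Z)) =
        (dgl (-1))⁻¹ * (Z⁻¹ * g * Z) * t := fun t => Units.ext (by
      rw [Units.val_mul, Units.val_mul _ t, hs', mul_smul_comm, smul_mul_assoc, mul_one, one_mul])
    obtain ⟨c, a1, a2⟩ := diag_of_comm h2 (g := Z⁻¹ * t₀ * Z) (by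
      have e3 := e2 (Z⁻¹ * t₀ * Z)
      have e4 : Z⁻¹ * g * Z * (Z⁻¹ * t₀ * Z) = Z⁻¹ * t₀ * Z * (Z⁻¹ * g * Z) := by
        calc _ = Z⁻¹ * (g * t₀) * Z := by group
          _ = _ := by rw [← hc]; group
      rw [mul_assoc (dgl (-1))⁻¹, e4, ← mul_assoc, ← mul_assoc (dgl (-1))⁻¹] at e3
      have e5 := mul_right_cancel e3
      calc _ = dgl (-1) * ((dgl (-1))⁻¹ * (Z⁻¹ * t₀ * Z)) * dgl (-1) := by group
        _ = _ := by rw [← e5]; group)
    refine ⟨c, fun hq => hs ?_, fun x hx => ?_⟩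
    · have := a2.mpr hq
      rwa [Units.val_mul, Units.val_mul, det_mul, det_mul, mul_right_comm, ← det_mul,
        ← Units.val_mul, inv_mul_cancel, Units.val_one, det_one, one_mul] at this
    · rw [← a1, e1]
      convert h0 _ hx using 1
      group
  have hall : ∀ (a : Fˣ) x, z * x * z⁻¹ ∈ P → z * dc a x * z⁻¹ ∈ P := by
    have k : ∀ a : Fˣ, IsSquare (a : F) → ∀ x, z * x * z⁻¹ ∈ P → z * dc a x * z⁻¹ ∈ P := by
      rintro a ⟨k, hk⟩
      have k0 : k ≠ 0 := fun e => a.ne_zero (by rw [hk, e, mul_zero])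
      rw [show a = Units.mk0 k k0 * Units.mk0 k k0 from Units.ext hk]
      exact hsq _
    intro a x hx
    by_cases ha : IsSquare (a : F)
    · exact k a ha x hx
    · have := k (a * c⁻¹) (by
        rw [Units.val_mul, Units.val_inv_eq_inv_val]
        exact isSquare_mul ha (by rwa [isSquare_inv])) _ (hc2 x hx)
      rwa [← dc_mul, inv_mul_cancel_right] at this
  rcases diag (P := P.comap (MulAut.conj z).toMonoidHom) h2 (fun e => h1' (by
      have : z⁻¹ * x0 * z ∈ P.comap (MulAut.conj z).toMonoidHom := by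
        simpa [mul_assoc] using hx0
      rw [e, mem_bot] at this
      calc x0 = z * (z⁻¹ * x0 * z) * z⁻¹ := by group
        _ = 1 := by rw [this]; group))
    (fun x hx => by
      have := hinv _ hx
      change gc g (z * x * z⁻¹) = (z * x * z⁻¹)⁻¹ at this
      rw [hy'] at this
      calc _ = z⁻¹ * (z * dc (-1) x * z⁻¹) * z := by group
        _ = _ := by rw [this]; group)
    (fun x hx => by
      have := htr _ hx
      change (z * x * z⁻¹).1.trace = 2 at this
      rwa [mul_coe, trace_mul_comm, ← mul_coe,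
        inv_mul_cancel_left] at this)
    (fun x hx y hy => (MulAut.conj z).injective (by
      rw [map_mul, map_mul]; exact hcomm _ hx _ hy)) hall with e | e
  · refine ⟨z, hy', fun x => ?_⟩
    have := e (z⁻¹ * x * z)
    simp only [mem_comap, MulEquiv.coe_toMonoidHom, MulAut.conj_apply] at this
    rw [show z * (z⁻¹ * x * z) * z⁻¹ = x by group] at this
    rw [this]
    exact exists_congr fun a => ⟨fun e => by rw [← e]; group, fun e => by rw [e]; group⟩
  · refine ⟨z * ww, fun x => ?_, fun x => ?_⟩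
    · rw [show z * ww * x * (z * ww)⁻¹ = z * (ww * x * ww⁻¹) * z⁻¹ by group, hy', dc_ww, inv_neg,
        inv_one]
      group
    have := e (z⁻¹ * x * z)
    simp only [mem_comap, MulEquiv.coe_toMonoidHom, MulAut.conj_apply] at this
    rw [show z * (z⁻¹ * x * z) * z⁻¹ = x by group] at this
    rw [this]
    have k : ∀ a, z * ww * xu a * (z * ww)⁻¹ = z * xl (-a) * z⁻¹ := fun a => by
      rw [← ww_xu]; group
    constructor
    · rintro ⟨a, e⟩
      exact ⟨-a, by rw [k, neg_neg, ← e]; group⟩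
    · rintro ⟨a, e⟩
      exact ⟨-a, by rw [e, k]; group⟩

end Cfsg.Agent.G2Q
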