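import Cfsg.Agent.G2Q.BaseT
import Cfsg.Agent.G2Q.SLc
import Cfsg.Agent.G2Q.Inner
import Cfsg.Agent.H49.Prod

set_option autoImplicit false

namespace Cfsg.Agent.G2Q

open Subgroup Matrix H90

variable {G : Type*} [Group G] [Finite G] {F₁ F₂ : Type*} [Field F₁] [Field F₂] [Finite F₁] [Finite F₂]
  {j : G} {f₁ : SL2 F₁ →* G} {f₂ : SL2 F₂ →* G} {H : Subgroup G}

variable {u r : G} {T : Subgroup G} {n₁ : SL2 F₁} {n₂ : SL2 F₂}

/-- How `u` and an outer element of `T` act on `L₁`. -/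
theorem Tor0.act₁ (h : Hyp j f₁ f₂ H) (t : Tor0 j f₁ f₂ H u T n₁ n₂) :
    ∃ (g t₀ : GL (Fin 2) F₁) (s : G), g.1.trace = 0 ∧ (∀ x, u * f₁ x * u⁻¹ = f₁ (gc g x)) ∧ s ∈ T ∧
      (∀ x, s * f₁ x * s⁻¹ = f₁ (gc t₀ x)) ∧ t₀ * g = g * t₀ ∧ ¬ IsSquare t₀.1.det := by
  obtain ⟨g, hg, hd⟩ := h.act₁ u (t.le t.uT)
  have hn : gc g n₁ = -n₁ := h.inj₁ (by rw [← hg, t.un₁, h.f₁_neg])
  have hne : gc g n₁ ≠ n₁ := fun e => sl_neg_ne h.two₁ (by
    rw [hn] at e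
    exact mul_right_cancel (b := n₁) (by rw [neg_one_mul, one_mul, e]))
  have htr : g.1.trace = 0 := trace_zero_of_sq (fun x => h.inj₁ (by
    rw [← hg, ← hg, ← mul_assoc, ← mul_assoc, t.u2, t.u_inv, one_mul, mul_assoc, t.u2, mul_one]))
    ⟨n₁, hne⟩
  by_cases hu : u ∈ YY f₁ f₂
  swap
  · exact ⟨g, g, u, htr, hg, t.uT, hg, rfl, fun e => hu (hd.1 e)⟩
  obtain ⟨s, hs, hsY⟩ := t.outer
  obtain ⟨t₀, ht, hd'⟩ := h.act₁ s (t.le hs)
  obtain ⟨y, hy⟩ := inner_of_isSquare (hd.2 hu)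
  have hyy : gc g y = y := by rw [hy, mul_inv_cancel_right]
  have hyT : f₁ y ∈ T := (t.mem₁ y).2 (by rw [← mul_inv_eq_iff_eq_mul, hg, hyy])
  refine ⟨g, t₀, s, htr, hg, hs, ht, comm_of_fix h.two₁ htr hyy ?_ ?_ (h.inj₁ ?_),
    fun e => hsY (hd'.1 e)⟩
  · rintro rfl
    exact hne (by rw [hy]; simp)
  · rintro rfl
    exact hne (by rw [hy]; simp)
  · rw [← ht, t.comm s hs _ hyT, mul_inv_cancel_right]

namespace Split

omit [Finite G] [Finite F₁] [Finite F₂] in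
theorem memT (h : Hyp j f₁ f₂ H) (t : Tor0 j f₁ f₂ H u T n₁ n₂) {g : GL (Fin 2) F₁}
    (hg : ∀ x, u * f₁ x * u⁻¹ = f₁ (gc g x)) {x : SL2 F₁} : f₁ x ∈ T ↔ x ∈ tor g := by
  rw [t.mem₁, ← mul_inv_eq_iff_eq_mul, hg, h.inj₁.eq_iff, mem_tor]

omit [Finite G] [Finite F₁] [Finite F₂] in
theorem cardT (h : Hyp j f₁ f₂ H) (t : Tor0 j f₁ f₂ H u T n₁ n₂) {g : GL (Fin 2) F₁}
    (hg : ∀ x, u * f₁ x * u⁻¹ = f₁ (gc g x)) :
    Nat.card (T ⊓ f₁.range : Subgroup G) = Nat.card (tor g) := by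
  rw [← card_map_of_injective (K := tor g) h.inj₁]
  congr 2
  ext y
  constructor
  · rintro ⟨hy, x, rfl⟩
    exact ⟨x, (memT h t hg).1 hy, rfl⟩
  · rintro ⟨x, hx, rfl⟩
    exact ⟨(memT h t hg).2 hx, x, rfl⟩

theorem comm_of_gc_eq {F : Type*} [Field F] {g g' s : GL (Fin 2) F} (h : ∀ x, gc g x = gc g' x)
    (hs : s * g = g * s) : s * g' = g' * s := by
  obtain ⟨c, hc⟩ := scalar_of_fix (g := g⁻¹ * g') fun x => by
    rw [gc_mul, ← h, ← gc_mul, inv_mul_cancel, gc_one]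
  have e : s * (g⁻¹ * g') = g⁻¹ * g' * s := Units.ext (by
    rw [Units.val_mul, Units.val_mul _ s, hc, mul_smul_comm, smul_mul_assoc, mul_one, one_mul])
  calc s * g' = g * (g⁻¹ * (s * g) * (g⁻¹ * g')) := by group
    _ = g * (s * (g⁻¹ * g')) := by rw [hs]; group
    _ = _ := by rw [e]; group

theorem dc_inj {F : Type*} [Field F] {a b : Fˣ} (h : dc a (xu 1) = dc b (xu (1 : F))) : a = b := by
  rw [dc_xu, dc_xu] at h
  exact Units.ext (by simpa using xu_inj h)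

theorem exists_sq_ne {F : Type*} [Field F] [Finite F] (ho : Odd (Nat.card F)) (h3 : Nat.card F ≠ 3) :
    ∃ c : Fˣ, (c : F) * c - 1 ≠ 0 := by
  by_contra hcon
  push Not at hcon
  have h1 : (Set.univ : Set F) ⊆ {0, 1, -1} := fun c _ => by
    by_cases c0 : c = 0
    · exact Or.inl c0
    · exact Or.inr (mul_self_eq_one_iff.mp (sub_eq_zero.mp (hcon (Units.mk0 c c0))))
  have h2 := Set.ncard_le_ncard h1
  have h4 : ({0, 1, -1} : Set F).ncard ≤ 3 :=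
    (Set.ncard_insert_le _ _).trans (Nat.succ_le_succ ((Set.ncard_insert_le _ _).trans (by simp)))
  rw [Set.ncard_univ] at h2
  have h5 : 1 < Nat.card F := Finite.one_lt_card
  obtain ⟨k, hk⟩ := ho
  omega

theorem odd_card {K : Type*} [Group K] [Finite K] {n : ℕ} (hn : Odd n) (h : ∀ x : K, x ^ n = 1) :
    Odd (Nat.card K) := by
  by_contra ho
  obtain ⟨x, hx⟩ := exists_prime_orderOf_dvd_card' 2 (even_iff_two_dvd.mp (Nat.not_odd_iff_even.mp ho))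
  exact (Nat.not_even_iff_odd.mpr hn) (even_iff_two_dvd.mpr (hx ▸ orderOf_dvd_of_pow_eq_one (h x)))

omit [Finite G] [Finite F₁] [Finite F₂] in
theorem mul_pow' (h : Hyp j f₁ f₂ H) (a : SL2 F₁) (b : SL2 F₂) (n : ℕ) :
    (f₁ a * f₂ b) ^ n = f₁ (a ^ n) * f₂ (b ^ n) := by
  rw [Commute.mul_pow (h.comm a b), map_pow, map_pow]

omit [Finite G] [Finite F₂] in
theorem uniq (h : Hyp j f₁ f₂ H) {n : ℕ} (hn : Odd n) {a a' : SL2 F₁} {b b' : SL2 F₂} (ha : a ^ n = 1)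
    (ha' : a' ^ n = 1) (e : f₁ a * f₂ b = f₁ a' * f₂ b') : a = a' ∧ b = b' := by
  refine (h.eq_pm e).resolve_right fun e' => ?_
  rw [e'.1, hn.neg_pow, ha'] at ha
  exact sl_neg_ne h.two₁ ha

theorem pow_card {P : Subgroup G} {x : G} (hx : x ∈ P) : x ^ Nat.card P = 1 :=
  congrArg Subtype.val (pow_card_eq_one' (x := (⟨x, hx⟩ : P)))

omit [Finite F₁] [Finite F₂] in
theorem dec (h : Hyp j f₁ f₂ H) (t : Tor0 j f₁ f₂ H u T n₁ n₂) {P : Subgroup G}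
    (hj : ∀ x ∈ P, x * j = j * x) (ho : Odd (Nat.card P)) (hinv : ∀ x ∈ P, u * x * u⁻¹ = x⁻¹)
    {x : G} (hx : x ∈ P) :
    ∃ a b, a ^ Nat.card P = 1 ∧ b ^ Nat.card P = 1 ∧ x = f₁ a * f₂ b := by
  have uH := t.le t.uT
  have xH : x ∈ H := h.mem_H_of_sq (hj x hx) (by
    have e : x * x = x * u * x⁻¹ * u⁻¹ := by
      have := hinv _ (P.inv_mem hx)
      rw [inv_inv] at this
      nth_rewrite 2 [← this]
      group
    rw [e]
    exact H.mul_mem (h.hnorm x (hj x hx) u uH) (H.inv_mem uH))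
  obtain ⟨a, b, e⟩ := h.mem_Y.1 (h.mem_Y_of_odd xH
    (ho.of_dvd_nat (orderOf_dvd_of_pow_eq_one (pow_card hx))))
  have e1 : f₁ (a ^ Nat.card P) * f₂ (b ^ Nat.card P) = f₁ 1 * f₂ 1 := by
    rw [← mul_pow' h, ← e, pow_card hx, map_one, map_one, mul_one]
  rcases h.eq_pm e1 with ⟨e2, e3⟩ | ⟨e2, e3⟩
  · exact ⟨a, b, e2, e3, e⟩
  · refine ⟨-a, -b, by rw [ho.neg_pow, e2, neg_neg], by rw [ho.neg_pow, e3, neg_neg], ?_⟩
    rw [h.f₁_neg, h.f₂_neg, e, h.f₂_j, mul_assoc, ← mul_assoc j, h.jj, one_mul]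

theorem root (h : Hyp j f₁ f₂ H) (t : Tor0 j f₁ f₂ H u T n₁ n₂) {P : Subgroup G}
    (ho : Odd (Nat.card P)) (hinv : ∀ x ∈ P, u * x * u⁻¹ = x⁻¹)
    (hT : ∀ s ∈ T, ∀ x ∈ P, s * x * s⁻¹ ∈ P) : P ⊓ f₁.range = ⊥ ∨ Root f₁ u (P ⊓ f₁.range) := by
  obtain ⟨g, t₀, s, htr, hg, hs, ht, hc, hns⟩ := t.act₁ h
  by_cases h0 : P.comap f₁ = ⊥
  · left
    rw [eq_bot_iff]
    rintro _ ⟨hx, x, rfl⟩
    have : x ∈ P.comap f₁ := hx
    rw [h0, mem_bot] at this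
    rw [this, map_one]
    exact one_mem _
  right
  obtain ⟨y, hy, hm⟩ := jcore h.two₁ htr hc hns (P.comap f₁)
    (odd_card ho fun x => Subtype.ext (h.inj₁ (by
      rw [SubgroupClass.coe_pow, map_pow, pow_card (P := P) x.2, OneMemClass.coe_one, map_one]))) h0
    (fun x hx => h.inj₁ (by rw [← hg, hinv _ hx, map_inv]))
    (fun a ha x hx => by
      rw [mem_comap, map_mul, map_mul, map_inv]
      exact hT _ ((memT h t hg).2 ha) _ hx)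
    (fun x hx => by rw [mem_comap, ← ht]; exact hT s hs _ hx)
  refine ⟨y, fun x => by rw [ci_apply, ci_apply, hg, hy], ?_⟩
  ext z
  rw [mem_rt]
  constructor
  · rintro ⟨hz, x, rfl⟩
    obtain ⟨a, rfl⟩ := (hm x).1 hz
    exact ⟨a, rfl⟩
  · rintro ⟨a, rfl⟩
    exact ⟨(hm _).2 ⟨a, rfl⟩, _, rfl⟩

theorem first (h : Hyp j f₁ f₂ H) (t : Tor0 j f₁ f₂ H u T n₁ n₂) (h3 : Nat.card F₁ ≠ 3)
    {P : Subgroup G} (ho : Odd (Nat.card P)) (hinv : ∀ x ∈ P, u * x * u⁻¹ = x⁻¹)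
    (hT : ∀ s ∈ T, ∀ x ∈ P, s * x * s⁻¹ ∈ P) {a : SL2 F₁} {b : SL2 F₂} (ha : a ^ Nat.card P = 1)
    (hab : f₁ a * f₂ b ∈ P) : f₁ a ∈ P := by
  obtain ⟨g, t₀, s, htr, hg, hs, ht, hc, hns⟩ := t.act₁ h
  have hcomm : ∀ x ∈ P, ∀ y ∈ P, x * y = y * x := fun x hx y hy => by
    have := hinv _ (P.mul_mem hx hy)
    rw [← conj_mul, hinv x hx, hinv y hy, ← _root_.mul_inv_rev] at this
    exact (inv_injective this).symm
  let Q : Subgroup (SL2 F₁) :=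
    { carrier := {a | a ^ Nat.card P = 1 ∧ ∃ b, f₁ a * f₂ b ∈ P}
      one_mem' := ⟨one_pow _, 1, by rw [map_one, map_one, mul_one]; exact P.one_mem⟩
      mul_mem' := by
        rintro a a' ⟨ha, b, hb⟩ ⟨ha', b', hb'⟩
        refine ⟨?_, b * b', by rw [← h.mul_mul]; exact P.mul_mem hb hb'⟩
        have e := hcomm _ hb _ hb'
        rw [h.mul_mul, h.mul_mul] at e
        rcases h.eq_pm e with e1 | e1
        · rw [Commute.mul_pow e1.1, ha, ha', mul_one]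
        · have e2 : a * a' * a⁻¹ = -a' := by rw [e1.1, neg_mul, mul_inv_cancel_right]
          have e3 := congrArg (· ^ Nat.card P) e2
          simp only [conj_pow, ho.neg_pow, ha', mul_one, mul_inv_cancel] at e3
          exact absurd e3.symm (sl_neg_ne h.two₁)
      inv_mem' := by
        rintro a ⟨ha, b, hb⟩
        refine ⟨by rw [inv_pow, ha, inv_one], b⁻¹, ?_⟩
        rw [h.comm, map_inv, map_inv, ← _root_.mul_inv_rev]
        exact P.inv_mem hb }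
  have cj : ∀ (c : G) (k : GL (Fin 2) F₁), c ∈ T → (∀ x, c * f₁ x * c⁻¹ = f₁ (gc k x)) →
      ∀ a b, ∃ b', c * (f₁ a * f₂ b) * c⁻¹ = f₁ (gc k a) * f₂ b' := by
    intro c k hcT hk a b
    obtain ⟨b', hb'⟩ := h.norm₂ c (t.T_j h hcT) b
    exact ⟨b', by rw [← conj_mul, hk, hb']⟩
  have cT : ∀ y ∈ tor g, ∀ a b, f₁ a * f₂ b ∈ P → f₁ (y * a * y⁻¹) * f₂ b ∈ P := by
    intro y hy a b hb
    have := hT _ ((memT h t hg).2 hy) _ hb
    rw [map_mul, map_mul, map_inv, mul_assoc _ _ (f₂ b), ← map_inv, h.comm, map_inv]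
    convert this using 1
    group
  by_cases h0 : Q = ⊥
  · have : a ∈ Q := ⟨ha, b, hab⟩
    rw [h0, mem_bot] at this
    rw [this, map_one]
    exact P.one_mem
  obtain ⟨y, hy, hm⟩ := jcore h.two₁ htr hc hns Q (odd_card ho fun x => Subtype.ext x.2.1) h0
    (by
      rintro x ⟨hx, b, hb⟩
      obtain ⟨b', e⟩ := cj u g t.uT hg x b
      rw [hinv _ hb, h.comm, _root_.mul_inv_rev, ← map_inv, ← map_inv] at e
      exact (uniq h ho (by rw [inv_pow, hx, inv_one]) (by rw [← map_pow, hx, map_one]) e).1.symm)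
    (by
      rintro y hy x ⟨hx, b, hb⟩
      exact ⟨by rw [conj_pow, hx, mul_one, mul_inv_cancel], b, cT y hy x b hb⟩)
    (by
      rintro x ⟨hx, b, hb⟩
      obtain ⟨b', e⟩ := cj s t₀ hs ht x b
      exact ⟨by rw [← map_pow, hx, map_one], b', e ▸ hT s hs _ hb⟩)
  obtain ⟨k, rfl⟩ := (hm a).1 ⟨ha, b, hab⟩
  obtain ⟨c, hc'⟩ := exists_sq_ne h.odd₁ h3
  obtain ⟨-, b', hb'⟩ := (hm _).2 ⟨k / (c * c - 1), rfl⟩
  have a1 := P.mul_mem (cT (y * hh c * y⁻¹)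
    (by rw [mem_tor, hy, (mem_tor_dgl h.two₁).mpr ⟨c, rfl⟩]) _ _ hb') (P.inv_mem hb')
  have a2 : xu k = hh c * xu (k / (c * c - 1)) * (hh c)⁻¹ * (xu (k / (c * c - 1)))⁻¹ := by
    rw [hh_conj, dc_xu, ← xu_neg, ← xu_add]
    congr 1
    rw [Units.val_mul]
    linear_combination (-1) * mul_div_cancel₀ k hc'
  rw [_root_.mul_inv_rev (f₁ _), mul_assoc, mul_inv_cancel_left, ← map_inv, ← map_mul] at a1
  convert a1 using 2
  rw [a2]
  group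

end Split

open Split

theorem Tor0.card_eq (h : Hyp j f₁ f₂ H) (t : Tor0 j f₁ f₂ H u T n₁ n₂) :
    Nat.card T = Nat.card (T ⊓ f₁.range : Subgroup G) * Nat.card (T ⊓ f₂.range : Subgroup G) := by
  have e1 : T ⊓ f₁.range ⊔ T ⊓ f₂.range = YY f₁ f₂ ⊓ T := by
    refine le_antisymm (sup_le (le_inf (inf_le_right.trans le_sup_left) inf_le_left)
      (le_inf (inf_le_right.trans le_sup_right) inf_le_left)) fun s hs => ?_
    obtain ⟨x, y, a, b, rfl⟩ := t.inner s hs.2 hs.1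
    exact mul_mem (mem_sup_left ⟨a, x, rfl⟩) (mem_sup_right ⟨b, y, rfl⟩)
  have e2 : T ⊓ f₁.range ⊓ (T ⊓ f₂.range) = zpowers j := by
    refine le_antisymm ?_ (zpowers_le.mpr ⟨⟨t.jT h, _, h.neg₁⟩, t.jT h, _, h.neg₂⟩)
    rintro _ ⟨⟨-, x, rfl⟩, -, y, e⟩
    rcases h.meet x y e.symm with e | e <;> rw [e]
    exacts [one_mem _, mem_zpowers j]
  have e3 : (YY f₁ f₂).relIndex T = 2 := by
    obtain ⟨s, hs, hsY⟩ := t.outer
    refine index_eq_two_iff.mpr ⟨⟨s, hs⟩, fun b => ?_⟩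
    have := h.mul_mem_Y (t.le b.2) (t.le hs)
    simp only [mem_subgroupOf, coe_mul, this, hsY, iff_false]
    by_cases hb : (b : G) ∈ YY f₁ f₂ <;> simp [Xor', hb]
  have e4 := H49.card_sup_mul_card_inf (H := T ⊓ f₁.range) (K := T ⊓ f₂.range) (Or.inl fun a ha => by
    apply mem_normalizer_fintype
    intro x hx
    rwa [t.comm a ha.1 x hx.1, mul_inv_cancel_right])
  have e5 : Nat.card ↥(YY f₁ f₂ ⊓ T) * (YY f₁ f₂).relIndex T = Nat.card T := by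
    rw [← inf_relIndex_right, relIndex, ← card_mul_index ((YY f₁ f₂ ⊓ T).subgroupOf T),
      Nat.card_congr (subgroupOfEquivOfLe (inf_le_right : YY f₁ f₂ ⊓ T ≤ T)).toEquiv]
  have := Fact.mk Nat.prime_two
  rw [e1, e2, Nat.card_zpowers, orderOf_eq_prime (by rw [sq, h.jj]) h.j1] at e4
  rw [← e4, ← e5, e3]

theorem Tor0.card₁ (h : Hyp j f₁ f₂ H) (t : Tor0 j f₁ f₂ H u T n₁ n₂) :
    Nat.card (T ⊓ f₁.range : Subgroup G) + 1 = Nat.card F₁ ∨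
      Nat.card (T ⊓ f₁.range : Subgroup G) = Nat.card F₁ + 1 := by
  obtain ⟨g, -, -, htr, hg, -⟩ := t.act₁ h
  rw [cardT h t hg]
  exact (em (IsSquare (-g.1.det))).imp (card_tor_of_isSquare h.two₁ htr)
    (card_tor_of_not_isSquare h.two₁ htr)

/-- The centraliser in `L₁` of a non-central element of `T ∩ L₁`. -/
theorem Tor0.cent₁ (h : Hyp j f₁ f₂ H) (t : Tor0 j f₁ f₂ H u T n₁ n₂) {b x : SL2 F₁} (hb : f₁ b ∈ T)
    (b1 : f₁ b ≠ 1) (b2 : f₁ b ≠ j) (hx : x * b = b * x) : f₁ x ∈ T := by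
  obtain ⟨g, -, -, htr, hg, -⟩ := t.act₁ h
  exact (memT h t hg).2 (cent_tor h.two₁ htr ((memT h t hg).1 hb) (fun e => b1 (by rw [e, map_one]))
    (fun e => b2 (by rw [e, h.neg₁])) hx)

/-- The centraliser in `H` of a non-central element of `T ∩ L₁` is `T L₂`. -/
theorem Tor0.centH₁ (h : Hyp j f₁ f₂ H) (t : Tor0 j f₁ f₂ H u T n₁ n₂) {b : SL2 F₁} (hb : f₁ b ∈ T)
    (b1 : f₁ b ≠ 1) (b2 : f₁ b ≠ j) {c : G} (hc : c ∈ H) (hx : c * f₁ b = f₁ b * c) :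
    ∃ s ∈ T, ∃ y, c = s * f₂ y := by
  have k : ∀ c ∈ YY f₁ f₂, c * f₁ b = f₁ b * c → ∃ s ∈ T, ∃ y, c = s * f₂ y := by
    intro c hc hx
    obtain ⟨a, y, rfl⟩ := h.mem_Y.1 hc
    have e := h.conj_f₁ a b y
    rw [hx, mul_inv_cancel_right] at e
    exact ⟨_, t.cent₁ h hb b1 b2 (mul_inv_eq_iff_eq_mul.1 (h.inj₁ e).symm), y, rfl⟩
  by_cases hY : c ∈ YY f₁ f₂
  · exact k c hY hx
  obtain ⟨s, hs, hsY⟩ := t.outer
  obtain ⟨s', hs', y, e⟩ := k (s * c) ((h.mul_mem_Y (t.le hs) hc).2 (by simp [hY, hsY]))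
    (by rw [mul_assoc, hx, ← mul_assoc, t.comm s hs _ hb, mul_assoc])
  exact ⟨s⁻¹ * s', T.mul_mem (T.inv_mem hs) hs', y, by rw [mul_assoc, ← e, inv_mul_cancel_left]⟩

theorem Tor0.card_spl₁ (h : Hyp j f₁ f₂ H) (t : Tor0 j f₁ f₂ H u T n₁ n₂) (hs : Spl f₁ u) :
    Nat.card (T ⊓ f₁.range : Subgroup G) + 1 = Nat.card F₁ := by
  rw [cardT h t (g := dgl (-1)) fun x => by rw [gc_dgl, hs]]
  exact card_tor_of_isSquare h.two₁ trace_dgl_neg_one (by rw [det_dgl]; simp)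

/-- In the split case `T` acts on `L₁` by diagonal matrices. -/
theorem Tor0.diag₁ (h : Hyp j f₁ f₂ H) (t : Tor0 j f₁ f₂ H u T n₁ n₂) (hs : Spl f₁ u) :
    ∃ α : T →* F₁ˣ, Function.Surjective α ∧ (∀ s : T, ∀ x, s * f₁ x * (s : G)⁻¹ = f₁ (dc (α s) x)) ∧
      ∀ s : T, α s = 1 ↔ (s : G) ∈ f₂.range := by
  obtain ⟨g, t₀, s₀, -, hg, hs₀, ht, hc, hns⟩ := t.act₁ h
  obtain ⟨a₀, ha₀, hsq⟩ := diag_of_comm h.two₁ (comm_of_gc_eq (g' := dgl (-1))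
    (fun x => h.inj₁ (by rw [← hg, gc_dgl, hs])) hc)
  have a0n : ¬ IsSquare (a₀ : F₁) := fun e => hns (hsq.2 e)
  have k : ∀ s ∈ T, s ∈ YY f₁ f₂ → ∃ a : F₁ˣ, ∀ x, s * f₁ x * s⁻¹ = f₁ (dc (a * a) x) := by
    intro s hsT hY
    obtain ⟨x, y, hx, -, rfl⟩ := t.inner s hsT hY
    obtain ⟨a, rfl⟩ := (mem_tor_dgl h.two₁).1 (h.inj₁ (by
      rw [← hs, (t.mem₁ x).1 hx, mul_inv_cancel_right]) : dc (-1) x = x)
    exact ⟨a, fun z => by rw [h.conj_f₁, hh_conj]⟩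
  have s0Y : s₀ ∉ YY f₁ f₂ := fun hY => by
    obtain ⟨a, ha⟩ := k s₀ hs₀ hY
    have e : a₀ = a * a := dc_inj (h.inj₁ (by rw [← ha, ht, ha₀]))
    exact a0n ⟨a, by rw [e, Units.val_mul]⟩
  have ex : ∀ s : T, ∃ a : F₁ˣ, (∀ x, s * f₁ x * (s : G)⁻¹ = f₁ (dc a x)) ∧
      (IsSquare (a : F₁) → (s : G) ∈ YY f₁ f₂) := by
    intro s
    by_cases hY : (s : G) ∈ YY f₁ f₂
    · obtain ⟨a, ha⟩ := k s s.2 hY
      exact ⟨_, ha, fun _ => hY⟩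
    · obtain ⟨a, ha⟩ := k (s * s₀⁻¹) (T.mul_mem s.2 (T.inv_mem hs₀))
        ((h.mul_mem_Y (t.le s.2) (t.le (T.inv_mem hs₀))).2 (by simp [hY, s0Y]))
      refine ⟨a * a * a₀, fun x => ?_, fun ⟨c, e⟩ => (a0n ⟨c / a, ?_⟩).elim⟩
      · rw [dc_mul, ← ha, ← ha₀, ← ht]; group
      · rw [Units.val_mul, Units.val_mul] at e
        field_simp
        linear_combination e
  choose α hα hα' using ex
  have un : ∀ (s : T) (a : F₁ˣ), (∀ x, s * f₁ x * (s : G)⁻¹ = f₁ (dc a x)) → α s = a :=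
    fun s a e => dc_inj (h.inj₁ (by rw [← hα, e]))
  let β : T →* F₁ˣ := MonoidHom.mk' α fun s s' => un _ _ fun x => by
    rw [dc_mul, ← hα, ← hα, coe_mul]; group
  have sq : ∀ a : F₁ˣ, IsSquare (a : F₁) → a ∈ β.range := by
    rintro a ⟨c, e⟩
    have c0 : c ≠ 0 := fun e' => a.ne_zero (by rw [e, e', mul_zero])
    refine ⟨⟨f₁ (hh (Units.mk0 c c0)), (t.mem₁ _).2 ?_⟩, un _ _ fun x => ?_⟩
    · rw [← mul_inv_eq_iff_eq_mul, hs, (mem_tor_dgl h.two₁).2 ⟨_, rfl⟩]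
    · rw [← map_inv, ← map_mul, ← map_mul, hh_conj,
        show a = Units.mk0 c c0 * Units.mk0 c c0 from Units.ext e]
  refine ⟨β, fun a => ?_, hα, fun s => ⟨fun e => ?_, ?_⟩⟩
  · by_cases ha : IsSquare (a : F₁)
    · exact sq a ha
    · have a1 := sq (a * a₀⁻¹) (by
        rw [Units.val_mul, Units.val_inv_eq_inv_val]
        exact SLc.isSquare_mul ha (by rwa [isSquare_inv]))
      have a2 : a₀ ∈ β.range := ⟨⟨s₀, hs₀⟩, un _ _ fun x => by rw [← ha₀, ← ht]⟩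
      have := β.range.mul_mem a1 a2
      rwa [inv_mul_cancel_right] at this
  · have e' : α s = 1 := e
    refine h.cent_Y₁ (hα' s (by rw [e']; simp)) fun x => ?_
    rw [← mul_inv_eq_iff_eq_mul, hα, e', dc_one]
  · rintro ⟨y, e⟩
    exact un _ _ fun x => by rw [dc_one, ← e, ← h.comm, mul_inv_cancel_right]

/-- A `T`-invariant subgroup of odd order of `C(j)` inverted by `u` is a product of root subgroups. -/
theorem Tor0.jlem (h : Hyp j f₁ f₂ H) (t : Tor0 j f₁ f₂ H u T n₁ n₂) (h3 : Nat.card F₁ ≠ 3 ∨ Nat.card F₂ ≠ 3)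
    (P : Subgroup G) (hj : ∀ x ∈ P, x * j = j * x) (ho : Odd (Nat.card P)) (hinv : ∀ x ∈ P, u * x * u⁻¹ = x⁻¹)
    (hT : ∀ s ∈ T, ∀ x ∈ P, s * x * s⁻¹ ∈ P) :
    (∀ x ∈ P, ∃ a b, f₁ a ∈ P ∧ f₂ b ∈ P ∧ x = f₁ a * f₂ b) ∧
      (P ⊓ f₁.range = ⊥ ∨ Root f₁ u (P ⊓ f₁.range)) ∧ (P ⊓ f₂.range = ⊥ ∨ Root f₂ u (P ⊓ f₂.range)) := by
  refine ⟨fun x hx => ?_, root h t ho hinv hT, root h.symm (t.symm h) ho hinv hT⟩
  obtain ⟨a, b, ha, hb, rfl⟩ := dec h t hj ho hinv hx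
  rcases h3 with h3 | h3
  · have := first h t h3 ho hinv hT ha hx
    exact ⟨a, b, this, (mul_mem_cancel_left this).mp hx, rfl⟩
  · have := first h.symm (t.symm h) h3 ho hinv hT hb (h.comm a b ▸ hx)
    exact ⟨a, b, (mul_mem_cancel_right this).mp hx, this, rfl⟩

end Cfsg.Agent.G2Q
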