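import Cfsg.Agent.G2Q.Base

/-! Basic consequences of the torus data. -/

set_option autoImplicit false

namespace Cfsg.Agent.G2Q

open Subgroup Matrix H90

variable {G : Type*} [Group G] {F₁ F₂ : Type*} [Field F₁] [Field F₂]
  {j : G} {f₁ : SL2 F₁ →* G} {f₂ : SL2 F₂ →* G} {H : Subgroup G}
  {u r : G} {T : Subgroup G} {n₁ : SL2 F₁} {n₂ : SL2 F₂}

theorem Spl.mul_j (h : Hyp j f₁ f₂ H) (hs : Spl f₁ u) : Spl f₁ (u * j) := fun x => by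
  rw [← hs x, mul_assoc u, ← h.f₁_j]; group

theorem Spl.xu (hs : Spl f₁ u) (a : F₁) : u * f₁ (xu a) * u⁻¹ = (f₁ (xu a))⁻¹ := by
  rw [hs, dc_xu, ← map_inv, ← xu_neg]; simp

theorem Spl.inv_rt (hs : Spl f₁ u) {x : G} (hx : x ∈ rt f₁) : u * x * u⁻¹ = x⁻¹ := by
  obtain ⟨a, rfl⟩ := mem_rt.1 hx; exact hs.xu a

theorem Spl.cf (hs : Spl f₁ u) (g : G) : Spl (cf g f₁) (g * u * g⁻¹) := fun x => by
  rw [cf_apply, cf_apply, ← hs x]; group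

namespace Tor0

theorem symm (h : Hyp j f₁ f₂ H) (t : Tor0 j f₁ f₂ H u T n₁ n₂) : Tor0 j f₂ f₁ H u T n₂ n₁ :=
  ⟨t.u2, t.u1, t.uj, t.le, t.comm, t.uT, t.mem₂, t.mem₁, fun s hs hY => by
    obtain ⟨x, y, a, b, e⟩ := t.inner s hs (YY_symm f₁ f₂ ▸ hY)
    exact ⟨y, x, b, a, e.trans (h.comm x y)⟩, YY_symm f₁ f₂ ▸ t.outer, t.sq₂, t.sq₁, t.un₂, t.un₁,
    h.comm n₁ n₂ ▸ t.inv, h.comm n₁ n₂ ▸ t.cent, t.om⟩

theorem u_inv (t : Tor0 j f₁ f₂ H u T n₁ n₂) : u⁻¹ = u := inv_eq_of_mul_eq_one_right t.u2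

theorem T_j (h : Hyp j f₁ f₂ H) (t : Tor0 j f₁ f₂ H u T n₁ n₂) {s : G} (hs : s ∈ T) : s * j = j * s :=
  h.hle s (t.le hs)

theorem cu (h : Hyp j f₁ f₂ H) (t : Tor0 j f₁ f₂ H u T n₁ n₂) : u * j = j * u := t.T_j h t.uT

theorem jT (h : Hyp j f₁ f₂ H) (t : Tor0 j f₁ f₂ H u T n₁ n₂) : j ∈ T :=
  h.neg₁ ▸ (t.mem₁ _).2 (h.neg₁.symm ▸ t.cu h)

theorem ujT (h : Hyp j f₁ f₂ H) (t : Tor0 j f₁ f₂ H u T n₁ n₂) : u * j ∈ T := mul_mem t.uT (t.jT h)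

theorem uj2 (h : Hyp j f₁ f₂ H) (t : Tor0 j f₁ f₂ H u T n₁ n₂) : u * j * (u * j) = 1 := by
  rw [mul_assoc, ← mul_assoc j, ← t.cu h, mul_assoc, h.jj, mul_one, t.u2]

theorem n₁_u (h : Hyp j f₁ f₂ H) (t : Tor0 j f₁ f₂ H u T n₁ n₂) : f₁ n₁ * u * (f₁ n₁)⁻¹ = u * j := by
  have e := t.un₁
  calc f₁ n₁ * u * (f₁ n₁)⁻¹ = u * (u⁻¹ * f₁ n₁ * u⁻¹⁻¹) * (f₁ n₁)⁻¹ := by group
    _ = u * (f₁ n₁ * j) * (f₁ n₁)⁻¹ := by rw [t.u_inv, e]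
    _ = u * j := by rw [h.f₁_j]; group

theorem n₂_u (h : Hyp j f₁ f₂ H) (t : Tor0 j f₁ f₂ H u T n₁ n₂) : f₂ n₂ * u * (f₂ n₂)⁻¹ = u * j :=
  (t.symm h).n₁_u h.symm

theorem n₁_uj (h : Hyp j f₁ f₂ H) (t : Tor0 j f₁ f₂ H u T n₁ n₂) : f₁ n₁ * (u * j) * (f₁ n₁)⁻¹ = u := by
  rw [← conj_mul, t.n₁_u h, h.f₁_j, mul_inv_cancel_right, mul_assoc, h.jj, mul_one]

theorem n₂_uj (h : Hyp j f₁ f₂ H) (t : Tor0 j f₁ f₂ H u T n₁ n₂) : f₂ n₂ * (u * j) * (f₂ n₂)⁻¹ = u :=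
  (t.symm h).n₁_uj h.symm

theorem n_sq (h : Hyp j f₁ f₂ H) (t : Tor0 j f₁ f₂ H u T n₁ n₂) : f₁ n₁ * f₂ n₂ * (f₁ n₁ * f₂ n₂) = 1 :=
  h.inner_sq t.sq₁ t.sq₂

theorem n_u (h : Hyp j f₁ f₂ H) (t : Tor0 j f₁ f₂ H u T n₁ n₂) : f₁ n₁ * f₂ n₂ * u = u * (f₁ n₁ * f₂ n₂) := by
  have := t.inv u t.uT
  rw [t.u_inv] at this
  exact mul_inv_eq_iff_eq_mul.1 this

theorem n_not_mem [Finite F₁] (h : Hyp j f₁ f₂ H) (t : Tor0 j f₁ f₂ H u T n₁ n₂) : f₁ n₁ * f₂ n₂ ∉ T := by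
  intro hn
  have k : ∀ v, v * f₁ n₁ * v⁻¹ = f₁ n₁ * j → f₁ n₁ * f₂ n₂ ≠ v := by
    rintro _ e rfl
    rw [h.conj_f₁, mul_inv_cancel_right] at e
    exact h.j1 (left_eq_mul.1 e)
  rcases t.om _ hn (t.n_sq h) with e | e | e | e
  · exact (h.inner_ne t.sq₁).1 e
  · exact (h.inner_ne t.sq₁).2 e
  · exact k _ t.un₁ e
  · exact k _ (by rw [← t.un₁, mul_assoc u, ← h.f₁_j]; group) e

/-- `n₁` normalises `T`. -/
theorem n₁_conj (h : Hyp j f₁ f₂ H) (t : Tor0 j f₁ f₂ H u T n₁ n₂) {s : G} (hs : s ∈ T) :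
    f₁ n₁ * s * (f₁ n₁)⁻¹ ∈ T := by
  obtain ⟨y, hy⟩ := h.norm₁ s (t.T_j h hs) n₁⁻¹
  have e : f₁ n₁ * s * (f₁ n₁)⁻¹ = f₁ (n₁ * y) * s := by rw [map_mul, ← hy, map_inv]; group
  have c1 : f₁ n₁ * s * (f₁ n₁)⁻¹ * u = u * (f₁ n₁ * s * (f₁ n₁)⁻¹) := by
    have := comm_conj (g := f₁ n₁) (t.comm s hs _ (t.ujT h))
    rwa [t.n₁_uj h] at this
  rw [e] at c1 ⊢
  refine mul_mem ((t.mem₁ _).2 ?_) hs
  rw [mul_assoc, t.comm s hs u t.uT, ← mul_assoc, ← mul_assoc] at c1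
  exact (mul_right_cancel c1).symm

theorem n₂_conj (h : Hyp j f₁ f₂ H) (t : Tor0 j f₁ f₂ H u T n₁ n₂) {s : G} (hs : s ∈ T) :
    f₂ n₂ * s * (f₂ n₂)⁻¹ ∈ T := (t.symm h).n₁_conj h.symm hs

theorem n₁_inv (h : Hyp j f₁ f₂ H) (t : Tor0 j f₁ f₂ H u T n₁ n₂) : (f₁ n₁)⁻¹ = f₁ n₁ * j := by
  rw [inv_eq_iff_mul_eq_one, ← mul_assoc, ← map_mul, t.sq₁, h.neg₁, h.jj]

theorem n₂_inv (h : Hyp j f₁ f₂ H) (t : Tor0 j f₁ f₂ H u T n₁ n₂) : (f₂ n₂)⁻¹ = f₂ n₂ * j :=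
  (t.symm h).n₁_inv h.symm

theorem n₁_conj' (h : Hyp j f₁ f₂ H) (t : Tor0 j f₁ f₂ H u T n₁ n₂) {s : G} (hs : s ∈ T) :
    (f₁ n₁)⁻¹ * s * f₁ n₁ = f₁ n₁ * s * (f₁ n₁)⁻¹ := by
  rw [t.n₁_inv h, mul_assoc (f₁ n₁), ← t.T_j h hs, mul_assoc, mul_assoc, ← h.f₁_j, mul_assoc]

theorem n₂_conj' (h : Hyp j f₁ f₂ H) (t : Tor0 j f₁ f₂ H u T n₁ n₂) {s : G} (hs : s ∈ T) :
    (f₂ n₂)⁻¹ * s * f₂ n₂ = f₂ n₂ * s * (f₂ n₂)⁻¹ := (t.symm h).n₁_conj' h.symm hs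

/-- `n₁` inverts `T ∩ L₁`. -/
theorem inv₁ (h : Hyp j f₁ f₂ H) (t : Tor0 j f₁ f₂ H u T n₁ n₂) {s : G} (hs : s ∈ T) (h1 : s ∈ f₁.range) :
    f₁ n₁ * s * (f₁ n₁)⁻¹ = s⁻¹ := by
  obtain ⟨x, rfl⟩ := h1
  rw [← t.inv _ hs, h.conj_f₁, map_mul, map_mul, map_inv]

theorem inv₂ (h : Hyp j f₁ f₂ H) (t : Tor0 j f₁ f₂ H u T n₁ n₂) {s : G} (hs : s ∈ T) (h1 : s ∈ f₂.range) :
    f₂ n₂ * s * (f₂ n₂)⁻¹ = s⁻¹ := (t.symm h).inv₁ h.symm hs h1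

theorem comm_U (h : Hyp j f₁ f₂ H) (t : Tor0 j f₁ f₂ H u T n₁ n₂) {d v : G} (d1 : d * j = j * d) (d2 : d * u = u * d)
    (hv : v ∈ T) (v2 : v * v = 1) : d * v = v * d := by
  rcases t.om v hv v2 with rfl | rfl | rfl | rfl
  · simp
  · exact d1
  · exact d2
  · have := h.jj
    exact (Commute.mul_right (a := d) d2 d1).eq

/-- Elements normalising the four-group normalise `T`. -/
theorem norm [Finite F₁] (h : Hyp j f₁ f₂ H) (t : Tor0 j f₁ f₂ H u T n₁ n₂) {g : G} (h1 : g * j * g⁻¹ ∈ T)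
    (h2 : g * u * g⁻¹ ∈ T) (h3 : g⁻¹ * j * g ∈ T) (h4 : g⁻¹ * u * g ∈ T) {s : G} (hs : s ∈ T) :
    g * s * g⁻¹ ∈ T := by
  have sq : ∀ {a : G}, a * a = 1 → g⁻¹ * a * g * (g⁻¹ * a * g) = 1 := fun {a} e => by
    calc _ = g⁻¹ * (a * a) * g := by group
      _ = 1 := by rw [e]; group
  have key : ∀ d, d * d = 1 → d * j = j * d → d * u = u * d → g * d * g⁻¹ ∈ H ∧ g * d * g⁻¹ * u = u * (g * d * g⁻¹) := by
    intro d d0 d1 d2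
    refine ⟨h.mem_H_of_inv (comm_conj_iff.2 (t.comm_U h d1 d2 h3 (sq h.jj)).symm).symm ?_,
      (comm_conj_iff.2 (t.comm_U h d1 d2 h4 (sq t.u2)).symm).symm⟩
    rw [conj_mul, d0]; group
  set n := f₁ n₁ * f₂ n₂ with hn
  have nj : n * j = j * n := h.mul_j (h.f₁_j _) (h.f₂_j _)
  have ni : n⁻¹ = n := inv_eq_of_mul_eq_one_right (t.n_sq h)
  have inv' : ∀ x ∈ T, n * x * (n * x) = 1 := fun x hx => by
    have := t.inv x hx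
    rw [← hn, ni] at this
    rw [← mul_assoc, this, inv_mul_cancel]
  obtain ⟨a1, a2⟩ := key n (t.n_sq h) nj (t.n_u h)
  obtain ⟨b1, b2⟩ := key (n * s) (inv' s hs) (h.mul_j nj (t.T_j h hs))
    (Commute.mul_left (a := n) (t.n_u h) (t.comm s hs u t.uT)).eq
  have e : g * s * g⁻¹ = g * n * g⁻¹ * (g * (n * s) * g⁻¹) := by
    rw [conj_mul, ← mul_assoc n, t.n_sq h, one_mul]
  rcases t.cent (g * s * g⁻¹) (e ▸ mul_mem a1 b1) (e ▸ (Commute.mul_left (a := g * n * g⁻¹) a2 b2).eq) with k | k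
  · exact k
  · have k2 := inv' _ k
    rw [← hn, ← mul_assoc n n, t.n_sq h, one_mul, conj_mul, conj_eq_one_iff] at k2
    rcases t.om s hs k2 with rfl | rfl | rfl | rfl
    · simp
    · exact h1
    · exact h2
    · rw [← conj_mul]; exact mul_mem h2 h1

/-- The same torus data for `u j`. -/
theorem mul_j [Finite F₁] (h : Hyp j f₁ f₂ H) (t : Tor0 j f₁ f₂ H u T n₁ n₂) : Tor0 j f₁ f₂ H (u * j) T n₁ n₂ := by
  have c : ∀ x : G, x * j = j * x → (u * j * x = x * (u * j) ↔ u * x = x * u) := fun x hx => by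
    rw [mul_assoc, ← hx, ← mul_assoc, ← mul_assoc, mul_left_inj]
  refine ⟨t.uj2 h, fun e => t.uj (by rw [← h.j_inv]; exact eq_inv_of_mul_eq_one_left e),
    fun e => t.u1 (mul_eq_right.1 e), t.le, t.comm, t.ujT h, fun x => (t.mem₁ x).trans (c _ (h.f₁_j x)).symm,
    fun x => (t.mem₂ x).trans (c _ (h.f₂_j x)).symm, t.inner, t.outer, t.sq₁, t.sq₂, ?_, ?_, t.inv,
    fun x hx e => t.cent x hx ((c x (h.hle x hx)).1 e.symm).symm, fun s hs e => ?_⟩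
  · rw [← t.un₁, mul_assoc u, ← h.f₁_j]; group
  · rw [← t.un₂, mul_assoc u, ← h.f₂_j]; group
  · rw [mul_assoc u, h.jj, mul_one]
    rcases t.om s hs e with k | k | k | k <;> simp [k]

theorem ci₁ (t : Tor0 j f₁ f₂ H u T n₁ n₂) (y : SL2 F₁) : Tor0 j (ci f₁ y) f₂ H u T (y⁻¹ * n₁ * y) n₂ := by
  have e : YY (ci f₁ y) f₂ = YY f₁ f₂ := by rw [YY, range_ci]
  have e1 : ∀ x, ci f₁ y (y⁻¹ * x * y) = f₁ x := fun x => by rw [ci_apply]; congr 1; group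
  refine ⟨t.u2, t.u1, t.uj, t.le, t.comm, t.uT, fun x => t.mem₁ _, t.mem₂, fun s hs hY => ?_, e ▸ t.outer, ?_, t.sq₂,
    (e1 n₁).symm ▸ t.un₁, t.un₂, (e1 n₁).symm ▸ t.inv, (e1 n₁).symm ▸ t.cent, t.om⟩
  · obtain ⟨a, b, k1, k2, k3⟩ := t.inner s hs (e ▸ hY)
    exact ⟨y⁻¹ * a * y, b, (e1 a).symm ▸ k1, k2, (e1 a).symm ▸ k3⟩
  · calc y⁻¹ * n₁ * y * (y⁻¹ * n₁ * y) = y⁻¹ * (n₁ * n₁) * y := by group
      _ = -1 := by rw [t.sq₁, mul_neg_one, neg_mul, inv_mul_cancel]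

theorem ci₂ (h : Hyp j f₁ f₂ H) (t : Tor0 j f₁ f₂ H u T n₁ n₂) (y : SL2 F₂) :
    Tor0 j f₁ (ci f₂ y) H u T n₁ (y⁻¹ * n₂ * y) := ((t.symm h).ci₁ y).symm (h.symm.ci₁ y)

/-- The conjugate torus data. -/
theorem cf (t : Tor0 j f₁ f₂ H u T n₁ n₂) (g : G) :
    Tor0 (g * j * g⁻¹) (cf g f₁) (cf g f₂) (H.map (MulAut.conj g).toMonoidHom) (g * u * g⁻¹)
      (T.map (MulAut.conj g).toMonoidHom) n₁ n₂ := by
  have c : ∀ x : G, g⁻¹ * (g * x * g⁻¹) * g = x := fun x => by group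
  have c' : ∀ x : G, g * (g⁻¹ * x * g) * g⁻¹ = x := fun x => by group
  have hi : ∀ {x y : G}, g * x * g⁻¹ = g * y * g⁻¹ → x = y := fun e => (MulAut.conj g).injective e
  refine ⟨by rw [conj_mul, t.u2]; group, fun e => t.u1 (conj_eq_one_iff.1 e), fun e => t.uj (hi e), map_mono t.le,
    ?_, ⟨u, t.uT, rfl⟩, fun x => ?_, fun x => ?_, fun s hs hY => ?_, ?_, t.sq₁, t.sq₂, ?_, ?_, ?_, fun x hx e => ?_,
    fun s hs e => ?_⟩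
  · rintro _ ⟨a, ha, rfl⟩ _ ⟨b, hb, rfl⟩; exact comm_conj (t.comm a ha b hb)
  · rw [mem_map_conj, cf_apply, c, t.mem₁, conj_mul, conj_mul]; exact ⟨fun e => by rw [e], hi⟩
  · rw [mem_map_conj, cf_apply, c, t.mem₂, conj_mul, conj_mul]; exact ⟨fun e => by rw [e], hi⟩
  · rw [YY_cf, mem_map_conj] at hY
    obtain ⟨a, b, k1, k2, k3⟩ := t.inner _ (mem_map_conj.1 hs) hY
    exact ⟨a, b, ⟨_, k1, rfl⟩, ⟨_, k2, rfl⟩, by rw [cf_apply, cf_apply, conj_mul, ← k3, c']⟩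
  · obtain ⟨s, hs, hY⟩ := t.outer
    exact ⟨g * s * g⁻¹, ⟨s, hs, rfl⟩, by rwa [YY_cf, mem_map_conj, c]⟩
  · rw [cf_apply, conj_mul, conj_mul, ← t.un₁]; group
  · rw [cf_apply, conj_mul, conj_mul, ← t.un₂]; group
  · rintro _ ⟨s, hs, rfl⟩
    change _ * (g * s * g⁻¹) * _ = (g * s * g⁻¹)⁻¹
    rw [cf_apply, cf_apply, conj_mul, conj_mul, conj_inv, conj_inv, conj_mul, t.inv s hs]
  · rcases t.cent _ (mem_map_conj.1 hx) (comm_conj_iff.1 e) with k | k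
    · exact Or.inl (mem_map_conj.2 k)
    · refine Or.inr (mem_map_conj.2 ?_)
      convert k using 1
      rw [cf_apply, cf_apply]; group
  · rw [conj_mul, ← c' s]
    rcases t.om _ (mem_map_conj.1 hs) (by
      calc _ = g⁻¹ * (s * s) * g := by group
        _ = 1 := by rw [e]; group) with k | k | k | k <;> simp [k]

end Tor0

namespace Tor

theorem ruj (h : Hyp j f₁ f₂ H) (t : Tor j f₁ f₂ H u r T n₁ n₂) : r * (u * j) * r⁻¹ = j := by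
  rw [← conj_mul, t.ru, t.rj, mul_assoc, ← t.cu h, ← mul_assoc, t.u2, one_mul]

theorem rj' (h : Hyp j f₁ f₂ H) (t : Tor j f₁ f₂ H u r T n₁ n₂) : r⁻¹ * j * r = u * j := by
  nth_rewrite 1 [← t.ruj h]; group

theorem ru' (t : Tor j f₁ f₂ H u r T n₁ n₂) : r⁻¹ * u * r = j := by rw [← t.rj]; group

theorem rT' (t : Tor j f₁ f₂ H u r T n₁ n₂) {s : G} : r⁻¹ * s * r ∈ T ↔ s ∈ T := by
  rw [← t.rT]; group

theorem ci₂ (h : Hyp j f₁ f₂ H) (t : Tor j f₁ f₂ H u r T n₁ n₂) (y : SL2 F₂) :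
    Tor j f₁ (ci f₂ y) H u r T n₁ (y⁻¹ * n₂ * y) := ⟨t.toTor0.ci₂ h y, t.rj, t.ru, t.rT, t.r₁⟩

theorem ci₁ (t : Tor j f₁ f₂ H u r T n₁ n₂) (y : SL2 F₁) :
    Tor j (ci f₁ y) f₂ H u r T (y⁻¹ * n₁ * y) n₂ := by
  have e1 : ∀ x, ci f₁ y (y⁻¹ * x * y) = f₁ x := fun x => by rw [ci_apply]; congr 1; group
  obtain ⟨m, hm⟩ := t.r₁
  exact ⟨t.toTor0.ci₁ y, t.rj, t.ru, t.rT, y⁻¹ * m * y, by rwa [e1, e1]⟩

/-- Elements of `L₂ ∩ L₂^r` commute with `r`. -/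
theorem r_comm (h : Hyp j f₁ f₂ H) (t : Tor j f₁ f₂ H u r T n₁ n₂) {b : G} (hb : b ∈ f₂.range)
    (hb' : r⁻¹ * b * r ∈ f₂.range) : r * b = b * r := by
  obtain ⟨m, hm⟩ := t.r₁
  obtain ⟨x, rfl⟩ := hb
  obtain ⟨y, hy⟩ := hb'
  have : f₂ x * (r * f₁ m * r⁻¹) = r * f₁ m * r⁻¹ * f₂ x := comm_conj_iff.2 (by rw [← hy, h.comm])
  rw [hm]
  exact (Commute.mul_left (a := f₁ n₁) (h.comm n₁ x) this.symm).eq

/-- `T ∩ L₂ ∩ L₂^r` contains no involution. -/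
theorem b_odd [Finite G] [Finite F₂] (h : Hyp j f₁ f₂ H) (t : Tor j f₁ f₂ H u r T n₁ n₂) {b : G} (hb : b ∈ f₂.range)
    (hb' : r⁻¹ * b * r ∈ f₂.range) : Odd (orderOf b) := by
  by_contra ho
  obtain ⟨k, hk⟩ := Nat.not_odd_iff_even.1 ho
  have k0 : 0 < k := by have := orderOf_pos b; omega
  have e : b ^ k * b ^ k = 1 := by rw [← pow_add, ← hk, pow_orderOf_eq_one]
  rcases h.symm.inv₁ (pow_mem hb k) e with e1 | e1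
  · exact pow_ne_one_of_lt_orderOf k0.ne' (by omega) e1
  · have e2 : r⁻¹ * j * r ∈ f₂.range := by
      have := pow_mem hb' k
      rwa [show r⁻¹ * b * r = r⁻¹ * b * r⁻¹⁻¹ by rw [inv_inv], conj_pow, inv_inv, e1] at this
    rw [t.rj' h] at e2
    rcases h.symm.inv₁ e2 (t.uj2 h) with e3 | e3
    · exact t.uj (by rw [← h.j_inv]; exact eq_inv_of_mul_eq_one_left e3)
    · exact t.u1 (mul_eq_right.1 e3)

end Tor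

end Cfsg.Agent.G2Q
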